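import Cfsg.Agent.Lib.SuzukiType.FiveSylow

/-!
Sylow subgroups for the prime seven: order seven, centraliser `7 × A₄`, normaliser of order 504.
-/

set_option autoImplicit false
set_option linter.unusedSectionVars false
set_option linter.style.haveILetI false
set_option maxRecDepth 100000
set_option synthInstance.maxSize 2000

namespace CfsgLib.SuzukiType

open Cfsg CentTools
open scoped Pointwise

universe u₀

variable {G : Type u₀} [Group G] [Finite G]
variable {z : G} {Qf : G → Subgroup G} {θ : G → V} {ρ : G → O} {J : Subgroup O}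
variable {y h t u k n x : G}

theorem five_unit : ∀ r : ZMod 5, r ^ 4 = 1 ∨ r = 0 := by decide

theorem centralizer_map (B : Subgroup G) (g : G) :
    Subgroup.centralizer (B.map (MulAut.conj g).toMonoidHom : Set G) =
      (Subgroup.centralizer (B : Set G)).map (MulAut.conj g).toMonoidHom := by
  ext c
  constructor
  · intro hc
    refine ⟨g⁻¹ * c * g, mem_cent_set.2 fun b hb => ?_, by simp [mul_assoc]⟩
    exact PairSetting.conj_comm (g := g⁻¹) (a := g * b * g⁻¹) (b := c) (by group) (by group)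
      (mem_cent_set.1 hc _ ⟨b, hb, rfl⟩)
  · rintro ⟨c, hc, rfl⟩
    refine mem_cent_set.2 ?_
    rintro _ ⟨b, hb, rfl⟩
    exact PairSetting.conj_comm (g := g) rfl rfl (mem_cent_set.1 hc b hb)

namespace Second

variable (S : Second z Qf θ ρ J y h t u k n x)
include S

/-- A subgroup of order seven of the copy of `PSL₃(4)` is a Sylow subgroup of the group. -/
theorem seven_sylow {B : Subgroup G} (hBN : B ≤ NT z t) (hB : Nat.card B = 7) (P : Sylow 7 G) :
    Nat.card (P : Subgroup G) = 7 ∧ ∃ g : G, (P : Subgroup G) = B.map (MulAut.conj g).toMonoidHom := by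
  haveI : Fact (Nat.Prime 7) := ⟨by norm_num⟩
  obtain ⟨Q, hQ⟩ := (IsPGroup.of_card (n := 1) (by rw [hB, pow_one]) : IsPGroup 7 B).exists_le_sylow
  have hQc : Nat.card (Q : Subgroup G) = 7 := by
    by_contra hne
    have h1 := (sq_dvd_cent hB Q hQ hne).trans (S.card_cent (Or.inr rfl) hBN hB)
    norm_num at h1
  have hBQ : B = (Q : Subgroup G) := Subgroup.eq_of_le_of_card_ge hQ (by rw [hQc, hB])
  obtain ⟨g, rfl⟩ := MulAction.exists_smul_eq G Q P
  refine ⟨?_, g, ?_⟩
  · exact (Nat.card_congr (Subgroup.equivSMul (MulAut.conj g) (Q : Subgroup G)).symm.toEquiv).trans hQc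
  · rw [hBQ]; rfl

/-- No element of order five commutes with an element of order seven. -/
theorem no_five_seven {w b : G} (hw : w ^ 5 = 1) (hw1 : w ≠ 1) (hb : b ^ 7 = 1) (hb1 : b ≠ 1)
    (hwb : w * b = b * w) : False := by
  classical
  haveI : Fact (Nat.Prime 5) := ⟨Nat.prime_five⟩
  haveI : Fact (Nat.Prime 7) := ⟨by norm_num⟩
  set X := Subgroup.centralizer ({w} : Set G) with hX
  have hXm : ∀ c, c ∈ X ↔ c * w = w * c := fun c => Subgroup.mem_centralizer_singleton_iff
  have hbX : b ∈ X := (hXm b).2 hwb.symm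
  have hob : orderOf b = 7 := orderOf_eq_prime hb hb1
  have how : orderOf w = 5 := orderOf_eq_prime hw hw1
  have hodd : ∀ c ∈ X, Odd (orderOf c) := by
    intro c hc
    by_contra hev
    obtain ⟨m, hm⟩ := Nat.not_odd_iff_even.1 hev
    have he1 : c ^ m ≠ 1 := fun e => by
      have := Nat.le_of_dvd (by have := orderOf_pos c; omega) (orderOf_dvd_of_pow_eq_one e)
      have := orderOf_pos c
      omega
    have h1 := S.five_cent hw hw1 (e := c ^ m) (by rw [← pow_add, ← hm, pow_orderOf_eq_one]) he1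
      ((hXm _).1 (pow_mem hc m)).symm
    have h2 : orderOf b ∣ 1800 := (Subgroup.orderOf_dvd_natCard _ hbX).trans h1
    rw [hob] at h2
    norm_num at h2
  obtain ⟨P, hP⟩ := (IsPGroup.of_card (n := 1) (by rw [Nat.card_zpowers, how, pow_one]) :
    IsPGroup 5 (Subgroup.zpowers w)).exists_le_sylow
  obtain ⟨hPc, hP5, hPs⟩ := S.five_sylow P
  have hwP : w ∈ (P : Subgroup G) := hP (Subgroup.mem_zpowers w)
  haveI hPab : IsMulCommutative (P : Subgroup G) :=
    IsPGroup.isMulCommutative_of_card_eq_prime_sq (p := 5) (by rw [hPc]; norm_num)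
  have hcomm : ∀ c ∈ (P : Subgroup G), ∀ d ∈ (P : Subgroup G), c * d = d * c := fun c hc d hd =>
    congrArg Subtype.val (hPab.is_comm.comm ⟨c, hc⟩ ⟨d, hd⟩)
  have hPX : (P : Subgroup G) ≤ X := fun c hc => (hXm c).2 (hcomm c hc w hwP)
  obtain ⟨a, haP, haw⟩ : ∃ a ∈ (P : Subgroup G), a ∉ Subgroup.zpowers w := by
    by_contra hno
    push Not at hno
    have := Subgroup.card_le_of_le (fun c hc => hno c hc : (P : Subgroup G) ≤ Subgroup.zpowers w)
    rw [hPc, Nat.card_zpowers, how] at this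
    omega
  have hgen : ∀ c ∈ (P : Subgroup G), ∃ r s : ℕ, c = w ^ r * a ^ s := by
    let f : Fin 5 × Fin 5 → (P : Subgroup G) := fun v => ⟨w ^ (v.1 : ℕ) * a ^ (v.2 : ℕ),
      mul_mem (pow_mem hwP _) (pow_mem haP _)⟩
    have hf : Function.Bijective f := by
      refine Function.Injective.bijective_of_nat_card_le (fun v v' hv => ?_) ?_
      · obtain ⟨h1, h2⟩ := two_inj hw hw1 (hP5 a haP) haw (congrArg Subtype.val hv)
        rw [ZMod.natCast_eq_natCast_iff', Nat.mod_eq_of_lt v.1.2, Nat.mod_eq_of_lt v'.1.2] at h1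
        rw [ZMod.natCast_eq_natCast_iff', Nat.mod_eq_of_lt v.2.2, Nat.mod_eq_of_lt v'.2.2] at h2
        exact Prod.ext (Fin.ext h1) (Fin.ext h2)
      · rw [hPc]; simp
    intro c hc
    obtain ⟨v, hv⟩ := hf.2 ⟨c, hc⟩
    exact ⟨v.1, v.2, (congrArg Subtype.val hv).symm⟩
  -- the subgroup is self-normalising in the centraliser
  have hnorm : ∀ c ∈ X, c ∈ Subgroup.normalizer ((P : Subgroup G) : Set G) →
      c ∈ (P : Subgroup G) := by
    intro c hc hcN
    have hconj : ∀ d ∈ (P : Subgroup G), c * d * c⁻¹ ∈ (P : Subgroup G) := fun d hd =>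
      (Subgroup.mem_normalizer_iff.1 hcN d).1 hd
    obtain ⟨r, s, hrs⟩ := hgen _ (hconj a haP)
    have hcw : c * w * c⁻¹ = w := conj_fix_iff.2 ((hXm c).1 hc)
    have hwa : Commute w a := hcomm w hwP a haP
    have hit : ∀ j : ℕ, ∃ r' : ℕ, c ^ j * a * (c ^ j)⁻¹ = w ^ r' * a ^ (s ^ j) := by
      intro j
      induction j with
      | zero => exact ⟨0, by simp⟩
      | succ j ih =>
        obtain ⟨r', hr'⟩ := ih
        refine ⟨r' + r * s ^ j, ?_⟩
        rw [pow_succ', show c * c ^ j * a * (c * c ^ j)⁻¹ = c * (c ^ j * a * (c ^ j)⁻¹) * c⁻¹ by group,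
          hr', show c * (w ^ r' * a ^ s ^ j) * c⁻¹ = (c * w ^ r' * c⁻¹) * (c * a ^ s ^ j * c⁻¹) by group,
          ← conj_pow, ← conj_pow, hcw, hrs, (hwa.pow_pow r s).mul_pow, ← pow_mul, ← pow_mul,
          ← mul_assoc, ← pow_add, ← pow_succ']
    obtain ⟨m, hm⟩ := hodd c hc
    obtain ⟨r', hr'⟩ := hit (orderOf c)
    rw [pow_orderOf_eq_one, one_mul, inv_one, mul_one] at hr'
    obtain ⟨-, h1⟩ := two_inj hw hw1 (hP5 a haP) haw (r := 0) (s := 1) (r' := r')
      (s' := s ^ orderOf c) (by rw [pow_zero, pow_one, one_mul]; exact hr')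
    rw [Nat.cast_one, Nat.cast_pow, hm] at h1
    have hs1 : (s : ZMod 5) = ((1 : ℕ) : ZMod 5) := by
      rcases five_unit (s : ZMod 5) with h4 | h0
      · have h2 : ((s : ZMod 5) ^ (2 * m + 1)) ^ 2 = 1 := by rw [← h1, one_pow]
        rw [← pow_mul, show (2 * m + 1) * 2 = 4 * m + 2 by ring, pow_add, pow_mul, h4, one_pow,
          one_mul] at h2
        rw [pow_succ, pow_mul, h2, one_pow, one_mul] at h1
        rw [Nat.cast_one]; exact h1.symm
      · rw [h0, zero_pow (by omega)] at h1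
        exact absurd h1 one_ne_zero
    rw [pow_cast (hP5 a haP) hs1, pow_one] at hrs
    have hj : ∀ j : ℕ, c ^ j * a * (c ^ j)⁻¹ = w ^ (r * j) * a := by
      intro j
      induction j with
      | zero => simp
      | succ j ih =>
        rw [pow_succ', show c * c ^ j * a * (c * c ^ j)⁻¹ = c * (c ^ j * a * (c ^ j)⁻¹) * c⁻¹ by group,
          ih, show c * (w ^ (r * j) * a) * c⁻¹ = (c * w ^ (r * j) * c⁻¹) * (c * a * c⁻¹) by group,
          ← conj_pow, hcw, hrs, ← mul_assoc, ← pow_add, mul_add, mul_one]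
    have h5 := hj 5
    rw [mul_comm r 5, pow_mul, hw, one_pow, one_mul] at h5
    have hc5 : c ^ 5 ∈ (P : Subgroup G) := hPs _ fun d hd => by
      obtain ⟨r₁, s₁, rfl⟩ := hgen d hd
      exact (((show Commute c w from (hXm c).1 hc).pow_left 5).pow_right r₁).mul_right
        ((show Commute (c ^ 5) a from conj_fix_iff.1 h5).pow_right s₁) |>.eq
    have hc25 : c ^ 5 ^ 2 = 1 := by rw [pow_two, pow_mul]; exact hP5 _ hc5
    have hpg : IsPGroup 5 (Subgroup.zpowers c) := fun d => ⟨2, Subtype.ext (by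
      obtain ⟨i, hi⟩ := Subgroup.mem_zpowers_iff.1 d.2
      rw [Subgroup.coe_pow, ← hi, ← zpow_natCast, ← zpow_mul, mul_comm, zpow_mul, zpow_natCast, hc25,
        one_zpow, Subgroup.coe_one])⟩
    have hsup := IsPGroup.to_sup_of_normal_right' hpg P.2 (Subgroup.zpowers_le.2 hcN)
    rw [← P.is_maximal' hsup le_sup_right]
    exact Subgroup.mem_sup_left (Subgroup.mem_zpowers c)
  -- the transfer
  set PX : Sylow 5 X := P.subtype hPX with hPXdef
  have hmemPX : ∀ c : X, c ∈ (PX : Subgroup X) ↔ (c : G) ∈ (P : Subgroup G) := fun c => by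
    rw [hPXdef, Sylow.coe_subtype, Subgroup.mem_subgroupOf]
  have hle : Subgroup.normalizer ((PX : Subgroup X) : Set X) ≤
      Subgroup.centralizer ((PX : Subgroup X) : Set X) := by
    intro c hc
    have hcP : (c : G) ∈ (P : Subgroup G) := hnorm c c.2 (Subgroup.mem_normalizer_fintype fun d hd =>
      (hmemPX _).1 ((Subgroup.mem_normalizer_iff.1 hc ⟨d, hPX hd⟩).1 ((hmemPX _).2 hd)))
    exact Subgroup.mem_centralizer_iff.2 fun d hd => Subtype.ext (hcomm _ ((hmemPX d).1 hd) _ hcP)
  haveI : IsMulCommutative (PX : Subgroup X) :=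
    ⟨⟨fun c d => Subtype.ext (Subtype.ext (hcomm _ ((hmemPX _).1 c.2) _ ((hmemPX _).1 d.2)))⟩⟩
  have hcompl := MonoidHom.ker_transferSylow_isComplement' PX hle
  set K := (MonoidHom.transferSylow PX hle).ker with hK
  have hPXc : Nat.card (PX : Subgroup X) = 25 := by
    rw [hPXdef, Sylow.coe_subtype, Nat.card_congr (Subgroup.subgroupOfEquivOfLe hPX).toEquiv]
    exact hPc
  have hcard := hcompl.card_mul_card
  rw [hPXc] at hcard
  have h7 : 7 ∣ Nat.card K := by
    have h1 : 7 ∣ Nat.card K * 25 := by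
      rw [hcard, ← hob]
      exact Subgroup.orderOf_dvd_natCard _ hbX
    exact (Nat.Coprime.dvd_of_dvd_mul_right (by norm_num) h1)
  have h5K : ¬ 5 ∣ Nat.card K := by
    have hidx := (PX : Subgroup X).card_mul_index
    rw [hPXc, ← hcard] at hidx
    have : (PX : Subgroup X).index = Nat.card K := by omega
    rw [← this]
    exact PX.not_dvd_index
  obtain ⟨R⟩ := (inferInstance : Nonempty (Sylow 7 K))
  set RX := (R : Subgroup K).map K.subtype with hRX
  set N := Subgroup.normalizer (RX : Set X) with hN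
  have htop : N ⊔ K = ⊤ := Sylow.normalizer_sup_eq_top R
  have h25 : 25 ∣ Nat.card N := by
    have hsurj : Function.Surjective ((QuotientGroup.mk' K).comp N.subtype) := by
      intro c
      obtain ⟨d, rfl⟩ := QuotientGroup.mk'_surjective K c
      obtain ⟨e, he, f, hf, rfl⟩ := Subgroup.mem_sup_of_normal_right.1
        (htop ▸ Subgroup.mem_top d : d ∈ N ⊔ K)
      exact ⟨⟨e, he⟩, by simp [hf]⟩
    have h1 := Subgroup.card_dvd_of_surjective _ hsurj
    have h2 := Subgroup.card_eq_card_quotient_mul_card_subgroup K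
    rw [← hcard, mul_comm (Nat.card K)] at h2
    rwa [← Nat.eq_of_mul_eq_mul_right Nat.card_pos h2] at h1
  -- the subgroup of order seven
  obtain ⟨B, hBN, hB⟩ := S.exists_order (Or.inr rfl)
  have hR7 : Nat.card RX = 7 := by
    set RG := RX.map X.subtype
    have hRG : IsPGroup 7 RG := (R.2.map _).map _
    have hc : Nat.card RG = Nat.card RX := Subgroup.card_map_of_injective X.subtype_injective
    have hcR : Nat.card RX = Nat.card (R : Subgroup K) := Subgroup.card_map_of_injective K.subtype_injective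
    obtain ⟨T, hT⟩ := hRG.exists_le_sylow
    have hd := Subgroup.card_dvd_of_le hT
    rw [(S.seven_sylow hBN hB T).1, hc] at hd
    rcases (Nat.dvd_prime (by norm_num)).1 hd with h1 | h1
    · exfalso
      refine R.not_dvd_index ?_
      have h3 := (R : Subgroup K).card_mul_index
      rw [← hcR, h1, one_mul] at h3
      rw [h3]; exact h7
    · exact h1
  obtain ⟨T⟩ := (inferInstance : Nonempty (Sylow 5 N))
  set TX := (T : Subgroup N).map N.subtype with hTX
  set TG := TX.map X.subtype with hTG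
  have hTc : Nat.card TX = 25 := by
    rw [hTX, Subgroup.card_map_of_injective N.subtype_injective]
    obtain ⟨j, hj⟩ := T.2.exists_card_eq
    have h1 : 25 ∣ Nat.card (T : Subgroup N) := by
      exact Nat.Coprime.dvd_of_dvd_mul_right
        (Nat.Coprime.pow_left 2 ((Nat.prime_five.coprime_iff_not_dvd).2 T.not_dvd_index))
        ((T : Subgroup N).card_mul_index.symm ▸ h25)
    obtain ⟨U, hU⟩ := ((T.2.map N.subtype).map X.subtype).exists_le_sylow
    have h2 := Subgroup.card_dvd_of_le hU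
    rw [(S.five_sylow U).1, Subgroup.card_map_of_injective X.subtype_injective,
      Subgroup.card_map_of_injective N.subtype_injective] at h2
    exact Nat.dvd_antisymm h2 h1
  have hRTc : ∀ c ∈ TX, ∀ d ∈ RX, c * d = d * c := by
    intro c hc d hd
    obtain ⟨⟨c, hcN⟩, hcT, rfl⟩ := hc
    have h1 : (⟨c, hcN⟩ : N) ^ 5 ^ 2 = 1 := by
      refine orderOf_dvd_iff_pow_eq_one.1 ?_
      have := Subgroup.orderOf_dvd_natCard _ hcT
      rw [hTX, Subgroup.card_map_of_injective N.subtype_injective] at hTc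
      rwa [hTc] at this
    have h2 : (c : X) ∈ Subgroup.centralizer (RX : Set X) :=
      cent_of_normalizer (m := 5 ^ 2) hR7 hcN (by norm_num) (by
        rw [show c ^ 5 ^ 2 = 1 from congrArg Subtype.val h1]; exact one_mem _)
    exact (mem_cent_set.1 h2 d hd).symm
  obtain ⟨U, hU⟩ := ((T.2.map N.subtype).map X.subtype).exists_le_sylow
  obtain ⟨hUc, -, hUs⟩ := S.five_sylow U
  have hUT : TG = (U : Subgroup G) := Subgroup.eq_of_le_of_card_ge hU (by
    rw [hUc, hTG, Subgroup.card_map_of_injective X.subtype_injective, hTc])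
  obtain ⟨d, hd, hd1⟩ := RX.bot_or_exists_ne_one.resolve_left fun hb => by
    rw [hb, Subgroup.card_bot] at hR7; omega
  have hdU : (d : G) ∈ (U : Subgroup G) := hUs _ fun c hc => by
    rw [← hUT] at hc
    obtain ⟨c, hc, rfl⟩ := hc
    exact (congrArg Subtype.val (hRTc c hc d hd)).symm
  have h5d := Subgroup.orderOf_dvd_natCard _ hdU
  have h7d := Subgroup.orderOf_dvd_natCard _ hd
  rw [hUc, Subgroup.orderOf_coe] at h5d
  rw [hR7] at h7d
  have := Nat.dvd_gcd h5d h7d
  norm_num at this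
  exact hd1 this

/-- The centraliser and the normaliser of a subgroup of order seven of the copy of `PSL₃(4)`. -/
theorem seven_local {B : Subgroup G} (hBN : B ≤ NT z t) (hB : Nat.card B = 7) :
    Nonempty (Subgroup.centralizer (B : Set G) ≃* Multiplicative (ZMod 7) × alternatingGroup (Fin 4)) ∧
      Nat.card (Subgroup.normalizer (B : Set G)) = 504 := by
  classical
  haveI : Fact (Nat.Prime 7) := ⟨by norm_num⟩
  haveI : Fact (Nat.Prime 5) := ⟨Nat.prime_five⟩
  haveI : Fact (Nat.Prime 3) := ⟨Nat.prime_three⟩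
  haveI : IsCyclic B := isCyclic_of_prime_card hB
  obtain ⟨b, hb, hb1⟩ := B.bot_or_exists_ne_one.resolve_left fun e => by
    rw [e, Subgroup.card_bot] at hB; omega
  have hb7 : b ^ 7 = 1 :=
    orderOf_dvd_iff_pow_eq_one.1 (hB ▸ Subgroup.orderOf_dvd_natCard _ hb)
  rcases (S.four_data (Or.inr rfl) hBN hB).cases with ⟨h84, ⟨e⟩⟩ | h420
  swap
  · exfalso
    obtain ⟨w, hw⟩ := exists_prime_orderOf_dvd_card' (G := Subgroup.centralizer (B : Set G)) 5 (by
      rw [h420]; norm_num)
    have hw' : orderOf (w : G) = 5 := by rw [Subgroup.orderOf_coe, hw]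
    exact S.no_five_seven (hw' ▸ pow_orderOf_eq_one _)
      (fun h => by rw [h, orderOf_one] at hw'; omega) hb7 hb1 (mem_cent_set.1 w.2 b hb).symm
  have hcyc : IsCyclic (Multiplicative (ZMod 7)) := inferInstance
  refine ⟨⟨e.trans (MulEquiv.prodCongr (mulEquivOfCyclicCardEq (G := B) (G' := Multiplicative (ZMod 7))
    (by rw [hB]; exact (Nat.card_zmod 7).symm)) (MulEquiv.refl _))⟩, ?_⟩
  set N := Subgroup.normalizer (B : Set G) with hN
  set φ := B.normalizerMonoidHom
  have hker : ∀ g : N, φ g = 1 ↔ (g : G) ∈ Subgroup.centralizer (B : Set G) := fun g => by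
    rw [← MonoidHom.mem_ker, Subgroup.normalizerMonoidHom_ker, Subgroup.mem_subgroupOf]
  have hA : Nat.card (MulAut B) = 6 := by
    rw [IsCyclic.card_mulAut, hB, Nat.totient_prime (by norm_num)]
  obtain ⟨F, iF, iF', hF, ⟨f⟩⟩ := S.NT_iso
  letI := iF
  letI := iF'
  have hB' : Nat.card (B.subgroupOf (NT z t)) = 7 := by
    rw [Nat.card_congr (Subgroup.subgroupOfEquivOfLe hBN).toEquiv, hB]
  obtain ⟨hC, -⟩ := centralizer_of_card hF f (Or.inr rfl) hB'
  obtain ⟨i, hi, hidx⟩ := normalizer_of_card hF f (Or.inr rfl) hB'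
  obtain rfl : i = 3 := by omega
  -- an element of order three
  obtain ⟨g, hgN, hg⟩ : ∃ g : G, ∃ hg : g ∈ N, φ ⟨g, hg⟩ ^ 3 = 1 ∧ φ ⟨g, hg⟩ ≠ 1 := by
    set B' := B.subgroupOf (NT z t)
    set N' := Subgroup.normalizer (B' : Set (NT z t))
    haveI hBn : (B'.subgroupOf N').Normal := Subgroup.normal_in_normalizer
    obtain ⟨g, hg⟩ : ∃ g : N', g ∉ B'.subgroupOf N' := by
      by_contra hall
      push Not at hall
      have : B'.relIndex N' = 1 := Subgroup.index_eq_one.2 (eq_top_iff.2 fun g _ => hall g)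
      omega
    have hgN : ((g : NT z t) : G) ∈ N :=
      Subgroup.mem_normalizer_fintype fun a ha =>
        (Subgroup.mem_normalizer_iff.1 g.2 ⟨a, hBN ha⟩).1 ha
    refine ⟨_, hgN, ?_, fun e => hg ?_⟩
    · have h1 := (B'.subgroupOf N').pow_index_mem g
      rw [show (B'.subgroupOf N').index = 3 from hidx] at h1
      rw [← map_pow, hker]
      exact mem_cent_set.2 fun c hc => congrArg Subtype.val
        (show (⟨c, hBN hc⟩ : NT z t) * (g : NT z t) ^ 3 = (g : NT z t) ^ 3 * ⟨c, hBN hc⟩ from by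
          have h2 : ((g ^ 3 : N') : NT z t) ∈ Subgroup.centralizer (B' : Set (NT z t)) := by
            rw [hC]; exact h1
          exact Subgroup.mem_centralizer_iff.1 h2 ⟨c, hBN hc⟩ hc)
    · have h1 : (g : NT z t) ∈ Subgroup.centralizer (B' : Set (NT z t)) :=
        Subgroup.mem_centralizer_iff.2 fun c hc => Subtype.ext (mem_cent_set.1 ((hker _).1 e) _ hc)
      rw [hC] at h1
      exact h1
  -- an element whose cube is not centralising
  obtain ⟨l, hl, hlc⟩ := conj_of_not_sq_dvd (p := 7) (K := NT z t)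
    (A := B.map (MulAut.conj x).toMonoidHom) (B := B)
    (by rintro _ ⟨a, ha, rfl⟩; exact S.NT_normal (mem_HT.2 S.xt) (hBN ha)) hBN
    (by rw [Subgroup.card_map_of_injective (MulAut.conj x).injective, hB]) hB
    (by rw [S.card_NT]; norm_num)
  have hmN : l * x ∈ N := Subgroup.mem_normalizer_fintype fun a ha => by
    have := hlc _ ⟨a, ha, rfl⟩
    simpa [mul_assoc] using this
  have hm3 : φ ⟨l * x, hmN⟩ ^ 3 ≠ 1 := by
    rw [← map_pow, Ne, hker, Subgroup.coe_pow]
    intro hc
    have hHT : (l * x) ^ 3 ∈ HT t := pow_mem (mul_mem (S.NT_le hl) (mem_HT.2 S.xt)) 3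
    obtain ⟨e, he, hea⟩ := S.HT_cent (Or.inr rfl) hBN hB hHT
      fun c hc' => (mem_cent_set.1 hc c hc').symm
    have hxl : x * l * x ∈ NT z t := by
      have := S.NT_normal (mem_HT.2 S.xt) hl
      rwa [show x⁻¹ = x from inv_eq_of_mul_eq_one_right S.xx] at this
    have h3 : x = (l * (x * l * x) * l)⁻¹ * (l * x) ^ 3 := by
      simp only [pow_succ, pow_zero, one_mul, mul_assoc]
      group
    have hi : Inner z t u x := by
      rw [h3]
      exact S.inner_left (inv_mem (mul_mem (mul_mem hl hxl) hl)) ⟨e, he, hBN hea⟩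
    obtain ⟨e', he', he'x⟩ := hi
    have hR : e' * x ∈ RR z t := mul_mem (S.four_RR he').1 S.xR
    have hS : e' * x ∈ S.SS := S.NT_sylow.1 ▸ ⟨he'x, hR⟩
    obtain ⟨v, w, hco, -, -⟩ := hS
    have hR0 : e' * x ∈ R0 z y t := mem_R0.2 ⟨mem_RR.1 hR, (S.Co_comm hco).2⟩
    exact S.x_not ((Subgroup.mul_mem_cancel_left _ (S.four_RR he')).1 hR0)
  have h3d : 3 ∣ Nat.card φ.range := by
    have hord : orderOf (φ ⟨g, hgN⟩) = 3 := orderOf_eq_prime hg.1 hg.2
    rw [← hord]
    exact Subgroup.orderOf_dvd_natCard _ ⟨_, rfl⟩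
  have hrange : Nat.card φ.range = 6 := by
    have h6 : Nat.card φ.range ∣ 6 := hA ▸ Subgroup.card_subgroup_dvd_card _
    have hne : Nat.card φ.range ≠ 3 := fun h3 => hm3 (by
      have := pow_card_eq_one' (x := (⟨φ ⟨l * x, hmN⟩, _, rfl⟩ : φ.range))
      rw [h3] at this
      exact congrArg Subtype.val this)
    obtain ⟨j, hj⟩ := h3d
    rw [hj] at h6 hne ⊢
    have : j ∣ 2 := Nat.dvd_of_mul_dvd_mul_left (by norm_num) (h6 : 3 * j ∣ 3 * 2)
    rcases (Nat.dvd_prime Nat.prime_two).1 this with rfl | rfl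
    · exact absurd rfl hne
    · rfl
  have hk : Nat.card φ.ker = 84 := by
    rw [Subgroup.normalizerMonoidHom_ker,
      Nat.card_congr (Subgroup.subgroupOfEquivOfLe (Subgroup.centralizer_le_normalizer (B : Set G))).toEquiv, h84]
  rw [← φ.ker.card_mul_index, Subgroup.index_ker, hrange, hk]

theorem seven_all (B : Sylow 7 G) :
    Nonempty (Subgroup.centralizer ((B : Subgroup G) : Set G) ≃*
      Multiplicative (ZMod 7) × alternatingGroup (Fin 4)) ∧
      Nat.card (Subgroup.normalizer ((B : Subgroup G) : Set G)) = 504 := by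
  obtain ⟨B₀, hBN, hB⟩ := S.exists_order (Or.inr rfl)
  obtain ⟨-, g, hg⟩ := S.seven_sylow hBN hB B
  obtain ⟨⟨e⟩, hN⟩ := S.seven_local hBN hB
  constructor
  · rw [hg, centralizer_map]
    exact ⟨((Subgroup.centralizer (B₀ : Set G)).equivMapOfInjective _
      (MulAut.conj g).injective).symm.trans e⟩
  · rw [hg, ← hN]
    have h1 : Subgroup.normalizer ((B₀.map (MulAut.conj g).toMonoidHom : Subgroup G) : Set G) =
        (Subgroup.normalizer (B₀ : Set G)).map (MulAut.conj g).toMonoidHom :=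
      (Subgroup.map_equiv_normalizer_eq B₀ (MulAut.conj g)).symm
    rw [h1, Subgroup.card_map_of_injective (MulAut.conj g).injective]

end Second

end CfsgLib.SuzukiType
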