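import Cfsg.Agent.Lib.SuzukiType.SecondFour
import Cfsg.Agent.Lib.SuzukiType.FiveLift

/-!
Orders of the subgroups attached to a pair of commuting involutions `z`, `t` and the sizes of the
classes of involutions in the two centralisers.
-/

set_option autoImplicit false
set_option linter.unusedSectionVars false
set_option linter.style.haveILetI false
set_option maxRecDepth 100000
set_option synthInstance.maxSize 2000

namespace CfsgLib.SuzukiType

open Cfsg CfsgLib.CIT

universe u₀

variable {G : Type u₀} [Group G] [Finite G]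

/-- The size of a class under a subgroup times the order of the centraliser in it. -/
theorem card_class_mul (H : Subgroup G) (a : G) :
    Nat.card {i : G // ∃ g ∈ H, g * a * g⁻¹ = i} *
      Nat.card (H ⊓ Subgroup.centralizer ({a} : Set G) : Subgroup G) = Nat.card H := by
  classical
  set C := (H ⊓ Subgroup.centralizer ({a} : Set G) : Subgroup G)
  choose σ hσ hσa using fun i : {i : G // ∃ g ∈ H, g * a * g⁻¹ = i} => i.2
  let f : {i : G // ∃ g ∈ H, g * a * g⁻¹ = i} × C → H := fun x =>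
    ⟨σ x.1 * x.2, mul_mem (hσ x.1) x.2.2.1⟩
  have hf : Function.Bijective f := by
    constructor
    · rintro ⟨i, c⟩ ⟨i', c'⟩ e
      have e1 : σ i * c = σ i' * c' := congrArg Subtype.val e
      have hc : ∀ d : C, (d : G) * a * (d : G)⁻¹ = a := fun d =>
        mul_inv_eq_iff_eq_mul.2 (Subgroup.mem_centralizer_singleton_iff.1 d.2.2)
      have hi : i = i' := Subtype.ext (by
        calc (i : G) = σ i * a * (σ i)⁻¹ := (hσa i).symm
          _ = σ i * ((c : G) * a * (c : G)⁻¹) * (σ i)⁻¹ := by rw [hc]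
          _ = (σ i * c) * a * (σ i * c)⁻¹ := by group
          _ = σ i' * ((c' : G) * a * (c' : G)⁻¹) * (σ i')⁻¹ := by rw [e1]; group
          _ = i' := by rw [hc, hσa])
      subst hi
      exact Prod.ext rfl (Subtype.ext (mul_left_cancel e1))
    · rintro ⟨g, hg⟩
      let i : {i : G // ∃ g ∈ H, g * a * g⁻¹ = i} := ⟨g * a * g⁻¹, g, hg, rfl⟩
      refine ⟨(i, ⟨(σ i)⁻¹ * g, H.mul_mem (H.inv_mem (hσ i)) hg, ?_⟩), Subtype.ext (mul_inv_cancel_left _ _)⟩
      refine Subgroup.mem_centralizer_singleton_iff.2 (mul_inv_eq_iff_eq_mul.1 ?_)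
      calc (σ i)⁻¹ * g * a * ((σ i)⁻¹ * g)⁻¹ = (σ i)⁻¹ * (g * a * g⁻¹) * σ i := by group
        _ = (σ i)⁻¹ * (σ i * a * (σ i)⁻¹) * σ i := by rw [hσa i]
        _ = a := by group
  rw [← Nat.card_prod]
  exact Nat.card_congr (Equiv.ofBijective f hf)

/-- A number dividing the size of every class under a subgroup divides the size of an invariant
set. -/
theorem dvd_card_of_classes {R : Subgroup G} {d : ℕ} {Q : G → Prop}
    (hQ : ∀ g ∈ R, ∀ a, Q a → Q (g * a * g⁻¹))
    (hd : ∀ a, Q a → d * Nat.card (R ⊓ Subgroup.centralizer ({a} : Set G) : Subgroup G) ∣ Nat.card R) :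
    d ∣ Nat.card {a : G // Q a} := by
  classical
  letI := Fintype.ofFinite G
  letI : MulAction R {a : G // Q a} :=
    { smul := fun g a => ⟨(g : G) * a * (g : G)⁻¹, hQ g g.2 a a.2⟩
      one_smul := fun a => Subtype.ext (by
        show ((1 : R) : G) * a * ((1 : R) : G)⁻¹ = a
        simp)
      mul_smul := fun g g' a => Subtype.ext (by
        show ((g * g' : R) : G) * a * ((g * g' : R) : G)⁻¹ =
          (g : G) * ((g' : G) * a * (g' : G)⁻¹) * (g : G)⁻¹
        simp [mul_assoc]) }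
  rw [Nat.card_congr (MulAction.selfEquivSigmaOrbits R {a : G // Q a}), Nat.card_sigma]
  refine Finset.dvd_sum fun ω _ => ?_
  set a := Quotient.out ω
  have h := card_class_mul R (a : G)
  have e : Nat.card {i : G // ∃ g ∈ R, g * a * g⁻¹ = i} = Nat.card (MulAction.orbit R a) := by
    refine Nat.card_congr
      { toFun := fun i => ⟨⟨i.1, by obtain ⟨g, hg, e⟩ := i.2; exact e ▸ hQ g hg a a.2⟩, by
          obtain ⟨g, hg, e⟩ := i.2; exact ⟨⟨g, hg⟩, Subtype.ext e⟩⟩
        invFun := fun i => ⟨i.1.1, by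
          obtain ⟨g, e⟩ := i.2; exact ⟨g, g.2, congrArg Subtype.val e⟩⟩
        left_inv := fun i => rfl
        right_inv := fun i => rfl }
  have h2 := hd a a.2
  rw [← h, e] at h2
  exact (Nat.mul_dvd_mul_iff_right Nat.card_pos).1 h2

theorem u_coords : ¬ Perp (z1V + z2V) := by decide +kernel

variable {z : G} {Qf : G → Subgroup G} {θ : G → V} {ρ : G → O} {J : Subgroup O}
variable {y h t u k n x : G}

namespace Second

variable (S : Second z Qf θ ρ J y h t u k n x)
include S

theorem u_not : u ∉ S.SS := by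
  rintro ⟨v, w, hco, hv, -⟩
  rw [(S.Co_unique hco S.u_co).1] at hv
  exact u_coords hv

theorem four_not {e : G} (he : IsFour t u e) (h1 : e ≠ 1) : e ∉ S.SS := by
  rcases he with rfl | rfl | rfl | rfl
  · exact absurd rfl h1
  · exact S.t_not
  · exact S.u_not
  · rw [← S.ut]; exact S.ut_not

theorem four_comm {e e' : G} (he : IsFour t u e) (he' : IsFour t u e') : e * e' = e' * e := by
  have hc : Commute t u := S.ut.symm
  rcases he with h | h | h | h <;> rcases he' with h' | h' | h' | h' <;> rw [h, h'] <;>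
    first
      | exact (Commute.one_left _).eq
      | exact (Commute.one_right _).eq
      | exact ((Commute.refl _).eq)
      | exact hc.eq
      | exact hc.symm.eq
      | exact ((Commute.refl t).mul_right hc).eq
      | exact ((Commute.refl t).mul_right hc).symm.eq
      | exact (hc.symm.mul_right (Commute.refl u)).eq
      | exact (hc.symm.mul_right (Commute.refl u)).symm.eq

theorem four_mul {e e' : G} (he : IsFour t u e) (he' : IsFour t u e') : IsFour t u (e * e') := by
  have ht : t * t = 1 := S.t_sq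
  have hu : u * u = 1 := S.u_sq
  have h1 : t * (t * u) = u := by rw [← mul_assoc, ht, one_mul]
  have h2 : t * u * u = t := by rw [mul_assoc, hu, mul_one]
  have h3 : u * t = t * u := S.ut
  have h4 : u * (t * u) = t := by rw [← mul_assoc, h3, h2]
  have h5 : t * u * t = u := by rw [mul_assoc, h3, h1]
  have h6 : t * u * (t * u) = 1 := by rw [mul_assoc, h4, ht]
  rcases he with h | h | h | h <;> rcases he' with h' | h' | h' | h' <;> rw [h, h'] <;>
    simp only [one_mul, mul_one, ht, hu, h1, h2, h3, h4, h5, h6, IsFour, true_or, or_true]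

theorem card_R0 : Nat.card (R0 z y t) = 256 := by
  classical
  let F : Fin 4 → G := ![1, t, u, t * u]
  have hF : ∀ i, IsFour t u (F i) := fun i => by fin_cases i <;> simp [F, IsFour]
  have hinjF : Function.Injective F := by
    have h1 := S.t_ne
    have h2 := S.u_ne
    have h3 := S.tu_ne
    have h4 : t ≠ u := fun e => h3 (by rw [← e, S.t_sq])
    have h5 : t ≠ t * u := fun e => h2 (mul_eq_left.1 e.symm)
    have h6 : u ≠ t * u := fun e => h1 (mul_eq_right.1 e.symm)
    intro i j e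
    fin_cases i <;> fin_cases j <;>
      simp [F, h1, h2, h3, h4, h5, h6, h1.symm, h2.symm, h3.symm, h4.symm, h5.symm, h6.symm] at e ⊢
  let f : Fin 4 × S.SS → R0 z y t := fun p =>
    ⟨F p.1 * p.2, mul_mem (S.four_RR (hF p.1)) (S.SS_le p.2.2)⟩
  have hf : Function.Bijective f := by
    constructor
    · rintro ⟨i, a⟩ ⟨j, b⟩ e
      have e1 : F i * a = F j * b := congrArg Subtype.val e
      have e2 : F i * F j = (b : G) * (a : G)⁻¹ := by
        calc F i * F j = F j * F i := S.four_comm (hF i) (hF j)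
          _ = F j * (F i * a) * (a : G)⁻¹ := by group
          _ = (b : G) * (a : G)⁻¹ := by rw [e1, ← mul_assoc (F j), S.four_sq (hF j), one_mul]
      have h1 : F i * F j = 1 := by
        by_contra hne
        exact S.four_not (S.four_mul (hF i) (hF j)) hne (e2 ▸ mul_mem b.2 (inv_mem a.2))
      have h2 : F i = F j := by
        have := congrArg (· * F j) h1
        simpa [mul_assoc, S.four_sq (hF j)] using this
      obtain rfl := hinjF h2
      exact Prod.ext rfl (Subtype.ext (mul_left_cancel e1))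
    · rintro ⟨a, ha⟩
      obtain ⟨e, he, hea⟩ := S.inner_R0 ha
      obtain ⟨i, hi⟩ : ∃ i, F i = e := by
        rcases he with rfl | rfl | rfl | rfl
        exacts [⟨0, rfl⟩, ⟨1, rfl⟩, ⟨2, rfl⟩, ⟨3, rfl⟩]
      exact ⟨(i, ⟨e * a, hea⟩), Subtype.ext (by
        show F i * (e * a) = a
        rw [hi, ← mul_assoc, S.four_sq he, one_mul])⟩
  rw [← Nat.card_congr (Equiv.ofBijective f hf), Nat.card_prod, Nat.card_fin, S.card_SS]

theorem card_RR : Nat.card (RR z t) = 512 := by
  classical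
  let X : ZMod 2 → G := fun c => zp x c
  have hX : ∀ c, X c ∈ RR z t := fun c => zp_mem S.xR c
  let f : ZMod 2 × R0 z y t → RR z t := fun p =>
    ⟨p.2 * X p.1, mul_mem p.2.2.1 (hX p.1)⟩
  have hf : Function.Bijective f := by
    constructor
    · rintro ⟨c, a⟩ ⟨c', a'⟩ e
      have e1 : (a : G) * X c = a' * X c' := congrArg Subtype.val e
      rcases z2_cases c with rfl | rfl <;> rcases z2_cases c' with rfl | rfl <;>
        simp only [X, zp_zero, zp_one, mul_one] at e1
      · exact Prod.ext rfl (Subtype.ext e1)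
      · exact absurd (by
          rw [show x = (a' : G)⁻¹ * (a' * x) by group, ← e1]
          exact mul_mem (inv_mem a'.2) a.2) S.x_not
      · exact absurd (by
          rw [show x = (a : G)⁻¹ * (a * x) by group, e1]
          exact mul_mem (inv_mem a.2) a'.2) S.x_not
      · exact Prod.ext rfl (Subtype.ext (mul_right_cancel e1))
    · rintro ⟨a, ha⟩
      by_cases hn : a ∈ R0 z y t
      · exact ⟨(0, ⟨a, hn⟩), Subtype.ext (mul_one a)⟩
      · exact ⟨(1, ⟨a * x, S.outer_mul ha hn⟩), Subtype.ext (by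
          show a * x * x = a
          rw [mul_assoc, S.xx, mul_one])⟩
  rw [← Nat.card_congr (Equiv.ofBijective f hf), Nat.card_prod, Nat.card_zmod, S.card_R0]

/-- The conjugates of `z` commuting with `t` are the involutions of `NT z t`. -/
theorem zType_iff {i : G} :
    (IsConj z i ∧ i * t = t * i) ↔ (i ∈ NT z t ∧ i * i = 1 ∧ i ≠ 1) := by
  constructor
  · rintro ⟨hc, hit⟩
    obtain ⟨g, hg⟩ := isConj_iff.1 hc
    obtain ⟨h2, h1⟩ := S.toSetting.conj_involution (c := g) S.toSetting.z_sq S.toSetting.z_ne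
    rw [hg] at h2 h1
    exact ⟨Subgroup.subset_closure ⟨hit, h2, hc⟩, h2, h1⟩
  · rintro ⟨hi, h2, h1⟩
    exact ⟨S.NT_involution hi h2 h1, mem_HT.1 (S.NT_le hi)⟩

/-- There are 315 of them. -/
theorem card_zType : Nat.card {i : G // IsConj z i ∧ i * t = t * i} = 315 := by
  obtain ⟨F, iF, iF', hF, ⟨f⟩⟩ := S.NT_iso
  letI := iF
  letI := iF'
  have hz : z ∈ NT z t := S.SS_le_NT S.z_SS
  have ho : ∀ (b : G) (hb : b ∈ NT z t), b * b = 1 → b ≠ 1 → orderOf (⟨b, hb⟩ : NT z t) = 2 :=
    fun b hb h2 h1 => orderOf_eq_prime_iff.2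
      ⟨Subtype.ext (by rw [Subgroup.coe_pow, pow_two]; exact h2), fun e => h1 (congrArg Subtype.val e)⟩
  have hC : NT z t ⊓ Subgroup.centralizer ({z} : Set G) = S.SS := by
    refine Eq.trans (le_antisymm (fun a ha => ?_) fun a ha => ?_) S.NT_sylow.1
    · exact ⟨ha.1, mem_RR.2 ⟨Subgroup.mem_centralizer_singleton_iff.1 ha.2, mem_HT.1 (S.NT_le ha.1)⟩⟩
    · exact ⟨ha.1, Subgroup.mem_centralizer_singleton_iff.2 (mem_RR.1 ha.2).1⟩
  have h := card_class_mul (NT z t) z
  rw [hC, S.card_SS, S.card_NT] at h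
  have e : Nat.card {i : G // IsConj z i ∧ i * t = t * i} =
      Nat.card {i : G // ∃ g ∈ NT z t, g * z * g⁻¹ = i} := by
    refine Nat.card_congr (Equiv.subtypeEquivRight fun i => ⟨fun hi => ?_, ?_⟩)
    · obtain ⟨hiN, h2, h1⟩ := S.zType_iff.1 hi
      obtain ⟨m, hm⟩ := isConj_iff.1 (isConj_involution hF f
        (ho z hz S.toSetting.z_sq S.toSetting.z_ne) (ho i hiN h2 h1))
      exact ⟨m, m.2, congrArg Subtype.val hm⟩
    · rintro ⟨g, hg, rfl⟩
      exact ⟨isConj_iff.2 ⟨g, rfl⟩, mem_HT.1 (S.NT_le (mul_mem (mul_mem hg hz) (inv_mem hg)))⟩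
  omega

theorem card_HT : Nat.card (HT t) = 315 * 512 := by
  have h := card_class_mul (HT t) z
  have hC : HT t ⊓ Subgroup.centralizer ({z} : Set G) = RR z t := inf_comm _ _
  rw [hC, S.card_RR] at h
  rw [← h, ← S.card_zType]
  congr 1
  refine Nat.card_congr (Equiv.subtypeEquivRight fun i => ⟨?_, fun hi => ?_⟩)
  · rintro ⟨g, hg, rfl⟩
    exact ⟨isConj_iff.2 ⟨g, rfl⟩, mem_HT.1 (mul_mem (mul_mem hg (mem_HT.2 S.zt)) (inv_mem hg))⟩
  · obtain ⟨g, hgt, hgz⟩ := S.zTypes_conj hi.2 hi.1
    exact ⟨g, mem_HT.2 hgt, hgz⟩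

/-- Conjugates of `t` commuting with `z` are conjugate under the centraliser of `z`. -/
theorem tTypes_conj {i : G} (hiz : i * z = z * i) (hc : IsConj t i) :
    ∃ g, g * z = z * g ∧ g * t * g⁻¹ = i := by
  obtain ⟨s₀, u₀, T0⟩ := S.exists_T0
  obtain ⟨g, hg⟩ := isConj_iff.1 hc
  obtain ⟨i2, i1⟩ := S.toSetting.conj_involution (c := g) S.t_sq S.t_ne
  rw [hg] at i2 i1
  have toT0 : ∀ b, b * z = z * b → b * b = 1 → b ≠ 1 → ¬ IsConj z b →
      ∃ c, c * z = z * c ∧ c * b * c⁻¹ = s₀ * u₀ := by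
    intro b hbz hb2 hb1 hbn
    obtain ⟨c, hcz, hcase⟩ := S.involution_cases T0 hbz hb2 hb1
    refine ⟨c, hcz, ?_⟩
    have hbc : IsConj b (c * b * c⁻¹) := isConj_iff.2 ⟨c, rfl⟩
    rcases hcase with e | e | ⟨e, -, -⟩ | e
    · exact absurd (hbc.trans (e ▸ IsConj.refl z)).symm hbn
    · exact absurd ((e ▸ (isConj_iff.2 ⟨h, S.hz⟩) : IsConj z (c * b * c⁻¹)).trans hbc.symm) hbn
    · obtain ⟨g2, g1⟩ := S.toSetting.conj_involution (c := c) hb2 hb1
      exact absurd ((S.isConj_of_Wy e g2 g1).trans hbc.symm) hbn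
    · exact e
  obtain ⟨c, hcz, hce⟩ := toT0 i hiz i2 i1 fun e => S.not_z_t (e.trans hc.symm)
  obtain ⟨d, hdz, hdt⟩ := toT0 t S.zt.symm S.t_sq S.t_ne S.not_z_t
  refine ⟨c⁻¹ * d, comm_mul (comm_inv hcz) hdz, ?_⟩
  rw [show c⁻¹ * d * t * (c⁻¹ * d)⁻¹ = c⁻¹ * (d * t * d⁻¹) * c by group, hdt, ← hce]
  group

theorem card_tType : Nat.card {i : G // IsConj t i ∧ i * z = z * i} = 6480 := by
  have h := card_class_mul (Subgroup.centralizer ({z} : Set G)) t
  rw [show Subgroup.centralizer ({z} : Set G) ⊓ Subgroup.centralizer ({t} : Set G) = RR z t from rfl,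
    S.card_RR, S.toSetting.card_cent] at h
  have e : Nat.card {i : G // IsConj t i ∧ i * z = z * i} =
      Nat.card {i : G // ∃ g ∈ Subgroup.centralizer ({z} : Set G), g * t * g⁻¹ = i} := by
    refine Nat.card_congr (Equiv.subtypeEquivRight fun i => ⟨fun hi => ?_, ?_⟩)
    · obtain ⟨g, hgz, hgt⟩ := S.tTypes_conj hi.2 hi.1
      exact ⟨g, Subgroup.mem_centralizer_singleton_iff.2 hgz, hgt⟩
    · rintro ⟨g, hg, rfl⟩
      exact ⟨isConj_iff.2 ⟨g, rfl⟩,
        Subgroup.mem_centralizer_singleton_iff.1 (mul_mem (mul_mem hg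
          (Subgroup.mem_centralizer_singleton_iff.2 S.zt.symm)) (inv_mem hg))⟩
  omega

end Second

end CfsgLib.SuzukiType
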