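import Cfsg.Agent.Lib.SuzukiType.FiveSylow
import Cfsg.Agent.Lib.SuzukiType.OrderCard

/-!
A Sylow subgroup for the prime five: the centralisers of its elements in its normaliser and an
element squaring all its elements.
-/

set_option autoImplicit false
set_option linter.unusedSectionVars false
set_option linter.style.haveILetI false
set_option maxRecDepth 100000
set_option synthInstance.maxSize 2000

namespace CfsgLib.SuzukiType

open Cfsg CfsgLib.CIT CentTools
open scoped Pointwise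

universe u₀

variable {G : Type u₀} [Group G] [Finite G]

/-- The normaliser of a subgroup. -/
abbrev NP (P : Subgroup G) : Subgroup G := Subgroup.normalizer (P : Set G)

/-- The centraliser of an element in the normaliser of a subgroup. -/
abbrev NC (P : Subgroup G) (w : G) : Subgroup G := NP P ⊓ Subgroup.centralizer ({w} : Set G)

/-- A self-centralising subgroup of order twenty five with two generators. -/
structure Plane (P : Sylow 5 G) (p a : G) : Prop where
  pP : p ∈ (P : Subgroup G)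
  aP : a ∈ (P : Subgroup G)
  p1 : p ≠ 1
  a_not : a ∉ Subgroup.zpowers p
  card : Nat.card (P : Subgroup G) = 25
  exp : ∀ c ∈ (P : Subgroup G), c ^ 5 = 1
  self : ∀ c, (∀ b ∈ (P : Subgroup G), c * b = b * c) → c ∈ (P : Subgroup G)

namespace Plane

variable {P : Sylow 5 G} {p a : G} (D : Plane P p a)
include D

theorem comm {b c : G} (hb : b ∈ (P : Subgroup G)) (hc : c ∈ (P : Subgroup G)) : b * c = c * b := by
  haveI : Fact (Nat.Prime 5) := ⟨Nat.prime_five⟩
  haveI : IsMulCommutative (P : Subgroup G) :=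
    IsPGroup.isMulCommutative_of_card_eq_prime_sq (p := 5) (by rw [D.card]; norm_num)
  exact congrArg Subtype.val
    (IsMulCommutative.is_comm.comm (⟨b, hb⟩ : (P : Subgroup G)) ⟨c, hc⟩)

theorem gen {c : G} (hc : c ∈ (P : Subgroup G)) : ∃ r s : ℕ, c = p ^ r * a ^ s := by
  let f : Fin 5 × Fin 5 → (P : Subgroup G) := fun w =>
    ⟨p ^ (w.1 : ℕ) * a ^ (w.2 : ℕ), mul_mem (pow_mem D.pP _) (pow_mem D.aP _)⟩
  have hf : Function.Bijective f := by
    refine Function.Injective.bijective_of_nat_card_le (fun v w hvw => ?_) (by rw [D.card]; simp)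
    obtain ⟨h1, h2⟩ := two_inj (D.exp p D.pP) D.p1 (D.exp a D.aP) D.a_not (congrArg Subtype.val hvw)
    rw [ZMod.natCast_eq_natCast_iff', Nat.mod_eq_of_lt v.1.2, Nat.mod_eq_of_lt w.1.2] at h1
    rw [ZMod.natCast_eq_natCast_iff', Nat.mod_eq_of_lt v.2.2, Nat.mod_eq_of_lt w.2.2] at h2
    exact Prod.ext (Fin.ext h1) (Fin.ext h2)
  obtain ⟨w, hw⟩ := hf.2 ⟨c, hc⟩
  exact ⟨w.1, w.2, (congrArg Subtype.val hw).symm⟩

theorem le_NP : (P : Subgroup G) ≤ NP (P : Subgroup G) := Subgroup.le_normalizer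

theorem conj_mem {g b : G} (hg : g ∈ NP (P : Subgroup G)) (hb : b ∈ (P : Subgroup G)) :
    g * b * g⁻¹ ∈ (P : Subgroup G) :=
  (Subgroup.mem_normalizer_iff.1 hg b).1 hb

theorem le_NC {w : G} (hw : w ∈ (P : Subgroup G)) : (P : Subgroup G) ≤ NC (P : Subgroup G) w :=
  fun b hb => ⟨D.le_NP hb, Subgroup.mem_centralizer_singleton_iff.2 (D.comm hb hw)⟩

theorem dvd_NP {g : G} (hg : g ∈ NP (P : Subgroup G)) {j : ℕ} (hj : g ^ 5 ^ j = 1) :
    g ∈ (P : Subgroup G) := by
  haveI : Fact (Nat.Prime 5) := ⟨Nat.prime_five⟩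
  have hp : IsPGroup 5 (Subgroup.zpowers g) := by
    obtain ⟨i, -, hi⟩ := (Nat.dvd_prime_pow Nat.prime_five).1 (orderOf_dvd_of_pow_eq_one hj)
    exact IsPGroup.of_card (n := i) (by rw [Nat.card_zpowers, hi])
  have hsup := hp.to_sup_of_normal_right' P.isPGroup' (Subgroup.zpowers_le.2 hg)
  have := P.is_maximal' hsup le_sup_right
  exact this ▸ Subgroup.mem_sup_left (Subgroup.mem_zpowers g)

/-- The stabiliser of a second element is the subgroup itself. -/
theorem NC_inf {w b : G} (hw : w ∈ (P : Subgroup G)) (hw1 : w ≠ 1) (hb : b ∈ (P : Subgroup G))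
    (hbw : b ∉ Subgroup.zpowers w) :
    (NC (P : Subgroup G) w ⊓ Subgroup.centralizer ({b} : Set G) : Subgroup G) = P := by
  have D' : Plane P w b := ⟨hw, hb, hw1, hbw, D.card, D.exp, D.self⟩
  refine le_antisymm (fun g hg => D.self g fun c hc => ?_) fun g hg =>
    ⟨D.le_NC hw hg, Subgroup.mem_centralizer_singleton_iff.2 (D.comm hg hb)⟩
  obtain ⟨r, s, rfl⟩ := D'.gen hc
  exact (((show Commute g w from Subgroup.mem_centralizer_singleton_iff.1 hg.1.2).pow_right r).mul_right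
    ((show Commute g b from Subgroup.mem_centralizer_singleton_iff.1 hg.2).pow_right s)).eq

/-- Elements of the centraliser of `w` move `b` according to a multiplier. -/
theorem NC_move {w b g : G} (hw : w ∈ (P : Subgroup G)) (hw1 : w ≠ 1) (hb : b ∈ (P : Subgroup G))
    (hbw : b ∉ Subgroup.zpowers w) (hg : g ∈ NC (P : Subgroup G) w) {r : ℕ}
    (he : g * b * g⁻¹ = w ^ r * b) : g ∈ (P : Subgroup G) := by
  have hgw : g * w * g⁻¹ = w := conj_fix_iff.2 (Subgroup.mem_centralizer_singleton_iff.1 hg.2)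
  have hwb : Commute w b := D.comm hw hb
  have hj : ∀ j : ℕ, g ^ j * b * (g ^ j)⁻¹ = w ^ (r * j) * b := by
    intro j
    induction j with
    | zero => simp
    | succ j ih =>
      rw [pow_succ', show g * g ^ j * b * (g * g ^ j)⁻¹ = g * (g ^ j * b * (g ^ j)⁻¹) * g⁻¹ by group, ih,
        show g * (w ^ (r * j) * b) * g⁻¹ = (g * w ^ (r * j) * g⁻¹) * (g * b * g⁻¹) by group, ← conj_pow,
        hgw, he, ← mul_assoc, ← pow_add, show r * j + r = r * (j + 1) by ring]
  have h5 := hj 5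
  rw [mul_comm r, pow_mul, D.exp w hw, one_pow, one_mul] at h5
  have hgP : g ^ 5 ∈ (P : Subgroup G) := by
    have hmem : g ^ 5 ∈ (NC (P : Subgroup G) w ⊓ Subgroup.centralizer ({b} : Set G) : Subgroup G) :=
      ⟨pow_mem hg 5, Subgroup.mem_centralizer_singleton_iff.2 (conj_fix_iff.1 h5)⟩
    rwa [D.NC_inf hw hw1 hb hbw] at hmem
  exact D.dvd_NP hg.1 (j := 2) (by rw [pow_two, pow_mul]; exact D.exp _ hgP)

theorem exists_other {w : G} (hw : w ∈ (P : Subgroup G)) :
    ∃ b ∈ (P : Subgroup G), b ∉ Subgroup.zpowers w := by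
  by_contra hall
  push Not at hall
  have h1 := Subgroup.card_le_of_le (show (P : Subgroup G) ≤ Subgroup.zpowers w from hall)
  rw [D.card, Nat.card_zpowers] at h1
  have := Nat.le_of_dvd (by norm_num) (orderOf_dvd_of_pow_eq_one (D.exp w hw))
  omega

theorem card_NC_le {w : G} (hw : w ∈ (P : Subgroup G)) (hw1 : w ≠ 1) :
    ∃ f, f ≤ 4 ∧ Nat.card (NC (P : Subgroup G) w) = 25 * f := by
  classical
  obtain ⟨b, hb, hbw⟩ := D.exists_other hw
  have D' : Plane P w b := ⟨hw, hb, hw1, hbw, D.card, D.exp, D.self⟩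
  have h := card_class_mul (NC (P : Subgroup G) w) b
  rw [D.NC_inf hw hw1 hb hbw, D.card] at h
  refine ⟨_, ?_, by rw [mul_comm]; exact h.symm⟩
  choose g hg hgb using fun c : {i : G // ∃ g ∈ NC (P : Subgroup G) w, g * b * g⁻¹ = i} => c.2
  choose r s hrs using fun c : {i : G // ∃ g ∈ NC (P : Subgroup G) w, g * b * g⁻¹ = i} =>
    D'.gen (D.conj_mem (hg c).1 hb)
  have hs0 : ∀ c, (s c : ZMod 5) ≠ 0 := by
    intro c h0
    have h1 := hrs c
    rw [pow_cast (D.exp b hb) (h0.trans Nat.cast_zero.symm), pow_zero, mul_one] at h1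
    refine hbw ⟨r c, ?_⟩
    show w ^ (r c : ℤ) = b
    have hgw := Subgroup.mem_centralizer_singleton_iff.1 (hg c).2
    calc w ^ (r c : ℤ) = (g c)⁻¹ * w ^ r c * g c := by
          rw [zpow_natCast, mul_assoc, ← ((show Commute (g c) w from hgw).pow_right (r c)).eq,
            inv_mul_cancel_left]
      _ = (g c)⁻¹ * (g c * b * (g c)⁻¹) * g c := by rw [h1]
      _ = b := by group
  refine le_trans (Nat.card_le_card_of_injective
    (fun c => (⟨(s c : ZMod 5), hs0 c⟩ : {u : ZMod 5 // u ≠ 0})) fun c c' e => ?_) (le_of_eq ?_)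
  · have e1 : (s c : ZMod 5) = s c' := congrArg Subtype.val e
    have hdiff : (g c')⁻¹ * g c ∈ (P : Subgroup G) := by
      obtain ⟨d, hd⟩ : ∃ d : ℕ, (d : ZMod 5) = (r c : ZMod 5) - r c' :=
        ⟨((r c : ZMod 5) - r c').val, ZMod.natCast_zmod_val _⟩
      refine D.NC_move hw hw1 hb hbw (mul_mem (inv_mem (hg c')) (hg c)) (r := d) ?_
      have h1 : g c * b * (g c)⁻¹ = g c' * (w ^ d * b) * (g c')⁻¹ := by
        rw [hrs c, show g c' * (w ^ d * b) * (g c')⁻¹ = (g c' * w ^ d * (g c')⁻¹) * (g c' * b * (g c')⁻¹) by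
          group, hrs c', ((show Commute (g c') w from
            Subgroup.mem_centralizer_singleton_iff.1 (hg c').2).pow_right d).mul_inv_cancel,
          ← mul_assoc, ← pow_add, pow_cast (D.exp b hb) e1]
        congr 1
        exact pow_cast (D.exp w hw) (by push_cast; rw [hd]; ring)
      rw [show (g c')⁻¹ * g c * b * ((g c')⁻¹ * g c)⁻¹ = (g c')⁻¹ * (g c * b * (g c)⁻¹) * g c' by group, h1]
      group
    refine Subtype.ext ?_
    rw [← hgb c, ← hgb c']
    calc g c * b * (g c)⁻¹ = g c' * (((g c')⁻¹ * g c) * b * ((g c')⁻¹ * g c)⁻¹) * (g c')⁻¹ := by group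
      _ = g c' * b * (g c')⁻¹ := by rw [conj_fix_iff.2 (D.comm hdiff hb)]
  · rw [Nat.card_eq_fintype_card]; rfl

/-- The Sylow count in the centraliser of an element. -/
theorem NC_index {w : G} (hw : w ∈ (P : Subgroup G)) :
    ∃ m, m % 5 = 1 ∧
      Nat.card (NC (P : Subgroup G) w) * m = Nat.card (Subgroup.centralizer ({w} : Set G)) := by
  haveI : Fact (Nat.Prime 5) := ⟨Nat.prime_five⟩
  set C := Subgroup.centralizer ({w} : Set G) with hC
  have hle : (P : Subgroup G) ≤ C := fun b hb => (D.le_NC hw hb).2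
  let P' : Sylow 5 C := P.subtype hle
  have hmap : ∀ b : C, b ∈ (P' : Subgroup C) ↔ (b : G) ∈ (P : Subgroup G) := fun b => Iff.rfl
  have hN : Subgroup.normalizer ((P' : Subgroup C) : Set C) = (NC (P : Subgroup G) w).subgroupOf C := by
    ext g
    rw [Subgroup.mem_subgroupOf, Subgroup.mem_normalizer_iff]
    constructor
    · intro hg
      refine ⟨Subgroup.mem_normalizer_fintype fun b hb => ?_, g.2⟩
      exact (hmap _).1 ((hg ⟨b, hle hb⟩).1 ((hmap _).2 hb))
    · intro hg b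
      exact ((hmap b).trans (Subgroup.mem_normalizer_iff.1 hg.1 (b : G))).trans (hmap (g * b * g⁻¹)).symm
  have h1 := card_sylow_modEq_one 5 C
  rw [Sylow.card_eq_index_normalizer P'] at h1
  have h1' : (Subgroup.normalizer ((P' : Subgroup C) : Set C)).index % 5 = 1 % 5 := h1
  rw [hN] at h1'
  refine ⟨((NC (P : Subgroup G) w).subgroupOf C).index, ?_, ?_⟩
  · omega
  · have := ((NC (P : Subgroup G) w).subgroupOf C).card_mul_index
    rwa [Nat.card_congr (Subgroup.subgroupOfEquivOfLe inf_le_right).toEquiv] at this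

theorem card_NC_even {w : G} (hw : w ∈ (P : Subgroup G)) (hw1 : w ≠ 1)
    (hc : Nat.card (Subgroup.centralizer ({w} : Set G)) = 1800 ∨
      Nat.card (Subgroup.centralizer ({w} : Set G)) = 300) :
    Nat.card (NC (P : Subgroup G) w) = 50 := by
  obtain ⟨f, hf, he⟩ := D.card_NC_le hw hw1
  obtain ⟨m, hm, hmul⟩ := D.NC_index hw
  rcases hc with e | e <;> rw [e, he] at hmul <;> interval_cases f <;> omega

theorem card_NC_odd {w : G} (hw : w ∈ (P : Subgroup G)) (hw1 : w ≠ 1)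
    (hno : ∀ e, e * e = 1 → e ≠ 1 → w * e ≠ e * w) :
    Nat.card (NC (P : Subgroup G) w) = 25 := by
  haveI : Fact (Nat.Prime 2) := ⟨Nat.prime_two⟩
  haveI : Fact (Nat.Prime 3) := ⟨Nat.prime_three⟩
  obtain ⟨f, hf, he⟩ := D.card_NC_le hw hw1
  have h2 : ¬ 2 ∣ Nat.card (NC (P : Subgroup G) w) := by
    intro hd
    obtain ⟨g, hg⟩ := exists_prime_orderOf_dvd_card' 2 hd
    have h2' : (g : G) * g = 1 := by
      rw [← pow_two, ← hg, ← Subgroup.orderOf_coe, pow_orderOf_eq_one]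
    refine hno g h2' (fun e => ?_) (Subgroup.mem_centralizer_singleton_iff.1 g.2.2).symm
    rw [← Subgroup.orderOf_coe, e, orderOf_one] at hg
    omega
  have h3 : ¬ 3 ∣ Nat.card (NC (P : Subgroup G) w) := by
    intro hd
    obtain ⟨g, hg⟩ := exists_prime_orderOf_dvd_card' 3 hd
    have h3' : (g : G) ^ 3 = 1 := by rw [← hg, ← Subgroup.orderOf_coe, pow_orderOf_eq_one]
    obtain ⟨b, hb, hbw⟩ := D.exists_other hw
    have D' : Plane P w b := ⟨hw, hb, hw1, hbw, D.card, D.exp, D.self⟩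
    obtain ⟨r, s, hrs⟩ := D'.gen (D.conj_mem g.2.1 hb)
    have hgw : (g : G) * w * (g : G)⁻¹ = w :=
      conj_fix_iff.2 (Subgroup.mem_centralizer_singleton_iff.1 g.2.2)
    have hit : ∀ j : ℕ, ∃ r', (g : G) ^ j * b * ((g : G) ^ j)⁻¹ = w ^ r' * b ^ (s ^ j) := by
      intro j
      induction j with
      | zero => exact ⟨0, by simp⟩
      | succ j ih =>
        obtain ⟨r', hr'⟩ := ih
        refine ⟨r' + r * s ^ j, ?_⟩
        rw [pow_succ', show (g : G) * (g : G) ^ j * b * ((g : G) * (g : G) ^ j)⁻¹ =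
            g * ((g : G) ^ j * b * ((g : G) ^ j)⁻¹) * (g : G)⁻¹ by group, hr',
          show (g : G) * (w ^ r' * b ^ s ^ j) * (g : G)⁻¹ =
            ((g : G) * w ^ r' * (g : G)⁻¹) * (g * b ^ s ^ j * (g : G)⁻¹) by group,
          ← conj_pow, ← conj_pow, hgw, hrs, ((show Commute w b from D.comm hw hb).pow_pow r s).mul_pow,
          ← pow_mul, ← pow_mul, ← mul_assoc, ← pow_add, pow_succ' s j]
    obtain ⟨r', hr'⟩ := hit 3
    rw [h3', one_mul, inv_one, mul_one] at hr'
    obtain ⟨-, hs3⟩ := two_inj (D.exp w hw) hw1 (D.exp b hb) hbw (r := 0) (s := 1) (r' := r')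
      (s' := s ^ 3) (by rw [pow_zero, one_mul, pow_one]; exact hr')
    have hs : (s : ZMod 5) = ((1 : ℕ) : ZMod 5) := by
      rw [Nat.cast_pow] at hs3
      have key : ∀ u : ZMod 5, (1 : ZMod 5) = u ^ 3 → u = 1 := by decide
      rw [Nat.cast_one] at hs3 ⊢
      exact key _ hs3
    rw [pow_cast (D.exp b hb) hs, pow_one] at hrs
    have hP := D.NC_move hw hw1 hb hbw g.2 hrs
    have h5 := orderOf_dvd_of_pow_eq_one (D.exp _ hP)
    rw [Subgroup.orderOf_coe, hg] at h5
    norm_num at h5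
  rw [he] at h2 h3 ⊢
  interval_cases f <;> omega

/-- Conjugate elements of the subgroup are conjugate in its normaliser. -/
theorem fusion {w w' : G} (hw : w ∈ (P : Subgroup G)) (hw' : w' ∈ (P : Subgroup G))
    (hc : IsConj w w') : ∃ g ∈ NP (P : Subgroup G), g * w * g⁻¹ = w' := by
  haveI : Fact (Nat.Prime 5) := ⟨Nat.prime_five⟩
  obtain ⟨c, hc⟩ := isConj_iff.1 hc
  obtain ⟨g, hg, he⟩ := Sylow.conj_eq_normalizer_conj_of_mem_centralizer P w c⁻¹
    (Subgroup.mem_centralizer_iff.2 fun b hb => D.comm hb hw)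
    (Subgroup.mem_centralizer_iff.2 fun b hb => D.comm hb (by rwa [inv_inv, hc]))
  refine ⟨g⁻¹, (NP (P : Subgroup G)).inv_mem hg, ?_⟩
  rw [inv_inv, ← hc]
  simpa using he.symm

end Plane

/-- A plane with an element inverting one generator and centralising the other. -/
structure Frame (P : Sylow 5 G) (p a i : G) : Prop extends Plane P p a where
  ip : i * p = p * i
  ia : i * a * i⁻¹ = a⁻¹
  e : ∃ e, e * e = 1 ∧ e ≠ 1 ∧ a * e = e * a
  card_p : Nat.card (Subgroup.centralizer ({p} : Set G)) = 1800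
  sq : IsConj p (p ^ 2)

namespace Frame

variable {P : Sylow 5 G} {p a i : G} (F : Frame P p a i)
include F

theorem a1 : a ≠ 1 := fun e => F.a_not (e ▸ one_mem _)

theorem iN : i ∈ NP (P : Subgroup G) :=
  Subgroup.mem_normalizer_fintype fun b hb => by
    obtain ⟨r, s, rfl⟩ := F.gen hb
    rw [show i * (p ^ r * a ^ s) * i⁻¹ = (i * p ^ r * i⁻¹) * (i * a ^ s * i⁻¹) by group, ← conj_pow,
      ← conj_pow, conj_fix_iff.2 F.ip, F.ia]
    exact mul_mem (pow_mem F.pP r) (pow_mem (inv_mem F.aP) s)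

theorem p_ne_inv {b : G} (hb : b ∈ (P : Subgroup G)) (h1 : b ≠ 1) : b ≠ b⁻¹ := fun e => h1 (by
  have h2 : b ^ 2 = 1 := by rw [pow_two]; nth_rw 2 [e]; exact mul_inv_cancel b
  have h5 := F.exp b hb
  rw [show 5 = 2 * 2 + 1 from rfl, pow_succ, pow_mul, h2, one_pow, one_mul] at h5
  exact h5)

/-- The centraliser of `p` in the normaliser fixes or inverts `a`. -/
theorem NC_p_cases {g : G} (hg : g ∈ NC (P : Subgroup G) p) :
    g * a * g⁻¹ = a ∨ g * a * g⁻¹ = a⁻¹ := by
  have hcard := F.card_NC_even F.pP F.p1 (Or.inl F.card_p)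
  have h := card_class_mul (NC (P : Subgroup G) p) a
  rw [F.NC_inf F.pP F.p1 F.aP F.a_not, F.card, hcard] at h
  set O' := {c : G // ∃ g ∈ NC (P : Subgroup G) p, g * a * g⁻¹ = c}
  have h2 : Nat.card O' = 2 := by omega
  let A : O' := ⟨a, 1, one_mem _, by group⟩
  let B : O' := ⟨a⁻¹, i, ⟨F.iN, Subgroup.mem_centralizer_singleton_iff.2 F.ip⟩, F.ia⟩
  have hAB : A ≠ B := fun e => F.p_ne_inv F.aP F.a1 (congrArg Subtype.val e)
  obtain ⟨x₁, x₂, -, hx⟩ := Nat.card_eq_two_iff.1 h2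
  have hall : ∀ c : O', c = x₁ ∨ c = x₂ := fun c => by
    have := (hx.symm ▸ Set.mem_univ c : c ∈ ({x₁, x₂} : Set O'))
    simpa using this
  have hc : (⟨g * a * g⁻¹, g, hg, rfl⟩ : O') = A ∨ (⟨g * a * g⁻¹, g, hg, rfl⟩ : O') = B := by
    rcases hall ⟨g * a * g⁻¹, g, hg, rfl⟩ with e | e <;> rcases hall A with eA | eA <;>
      rcases hall B with eB | eB
    all_goals first
      | exact absurd (eA.trans eB.symm) hAB
      | exact Or.inl (e.trans eA.symm)
      | exact Or.inr (e.trans eB.symm)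
  exact hc.imp (congrArg Subtype.val) (congrArg Subtype.val)

/-- An element of the normaliser squaring every element of the subgroup. -/
theorem exists_square (hcent : Nat.card (Subgroup.centralizer ({a} : Set G)) = 1800 ∨
    Nat.card (Subgroup.centralizer ({a} : Set G)) = 300) :
    ∃ s ∈ NP (P : Subgroup G), ∀ c ∈ (P : Subgroup G), s * c * s⁻¹ = c ^ 2 := by
  obtain ⟨γ, hγ, hγp⟩ := F.fusion F.pP (pow_mem F.pP 2) F.sq
  obtain ⟨C, d, hCd⟩ := F.gen (F.conj_mem hγ F.aP)
  have hC : (C : ZMod 5) = 0 := by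
    have hj : γ * i * γ⁻¹ ∈ NC (P : Subgroup G) p := by
      refine ⟨(NP (P : Subgroup G)).mul_mem ((NP (P : Subgroup G)).mul_mem hγ F.iN)
        ((NP (P : Subgroup G)).inv_mem hγ), Subgroup.mem_centralizer_singleton_iff.2 ?_⟩
      have h1 : Commute (γ * i * γ⁻¹) (p ^ 2) := by
        rw [← hγp]
        exact (PairSetting.conj_comm rfl rfl F.ip : _ = _)
      have h2 := h1.pow_right 3
      rw [← pow_mul, pow_succ, F.exp p F.pP, one_mul] at h2
      exact h2.eq
    have hja : (γ * i * γ⁻¹) * (γ * a * γ⁻¹) * (γ * i * γ⁻¹)⁻¹ = (γ * a * γ⁻¹)⁻¹ := by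
      rw [show (γ * i * γ⁻¹) * (γ * a * γ⁻¹) * (γ * i * γ⁻¹)⁻¹ = γ * (i * a * i⁻¹) * γ⁻¹ by group, F.ia]
      group
    have hjp : (γ * i * γ⁻¹) * p * (γ * i * γ⁻¹)⁻¹ = p :=
      conj_fix_iff.2 (Subgroup.mem_centralizer_singleton_iff.1 hj.2)
    set j := γ * i * γ⁻¹
    have hinv : (p ^ C * a ^ d)⁻¹ = p ^ (4 * C) * a ^ (4 * d) := by
      rw [mul_comm 4 C, mul_comm 4 d, pow_mul, pow_mul,
        ← ((show Commute (p ^ C) (a ^ d) from
          (show Commute p a from F.comm F.pP F.aP).pow_pow C d)).mul_pow]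
      have hm := F.exp _ (mul_mem (pow_mem F.pP C) (pow_mem F.aP d))
      exact inv_eq_of_mul_eq_one_left (by rw [← pow_succ]; exact hm)
    rw [hCd, hinv, show j * (p ^ C * a ^ d) * j⁻¹ = (j * p ^ C * j⁻¹) * (j * a ^ d * j⁻¹) by group,
      ← conj_pow, ← conj_pow, hjp] at hja
    have key : ∀ u : ZMod 5, u = 4 * u → u = 0 := by decide
    refine key _ ?_
    rcases F.NC_p_cases hj with e | e
    · rw [e] at hja
      have := (two_inj (F.exp p F.pP) F.p1 (F.exp a F.aP) F.a_not hja).1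
      push_cast at this
      exact this
    · rw [e, inv_eq_of_mul_eq_one_left (show a ^ 4 * a = 1 by rw [← pow_succ]; exact F.exp a F.aP),
        ← pow_mul] at hja
      have := (two_inj (F.exp p F.pP) F.p1 (F.exp a F.aP) F.a_not hja).1
      push_cast at this
      exact this
  rw [pow_cast (F.exp p F.pP) (hC.trans Nat.cast_zero.symm), pow_zero, one_mul] at hCd
  -- the multiplier is not `1` or `-1`
  have hbad : ∀ δ ∈ NP (P : Subgroup G), δ * p * δ⁻¹ = p ^ 2 → δ * a * δ⁻¹ ≠ a := by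
    intro δ hδ hδp hδa
    have hcard := F.card_NC_even F.aP F.a1 hcent
    have hp_not : p ∉ Subgroup.zpowers a := fun hp => by
      refine F.a_not ?_
      haveI : Fact (Nat.Prime 5) := ⟨Nat.prime_five⟩
      have hz := InvChar.HJSylow.zpowers_eq_of_card Nat.prime_five
        (by rw [Nat.card_zpowers]; exact orderOf_eq_prime (F.exp a F.aP) F.a1) hp F.p1
      exact hz.symm ▸ Subgroup.mem_zpowers a
    have h := card_class_mul (NC (P : Subgroup G) a) p
    rw [F.NC_inf F.aP F.a1 F.pP hp_not, F.card, hcard] at h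
    have hδ' : δ ∈ NC (P : Subgroup G) a :=
      ⟨hδ, Subgroup.mem_centralizer_singleton_iff.2 (conj_fix_iff.1 hδa)⟩
    have hδ2 : δ * δ * p * (δ * δ)⁻¹ = p ^ 4 := by
      rw [show δ * δ * p * (δ * δ)⁻¹ = δ * (δ * p * δ⁻¹) * δ⁻¹ by group, hδp, ← conj_pow, hδp, ← pow_mul]
    let f : Fin 3 → {c : G // ∃ g ∈ NC (P : Subgroup G) a, g * p * g⁻¹ = c} :=
      ![⟨p, 1, one_mem _, by group⟩, ⟨p ^ 2, δ, hδ', hδp⟩, ⟨p ^ 4, δ * δ, mul_mem hδ' hδ', hδ2⟩]
    have hp5 : ∀ m n : ℕ, m < 5 → n < 5 → p ^ m = p ^ n → m = n := by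
      intro m n hm hn e
      haveI : Fact (Nat.Prime 5) := ⟨Nat.prime_five⟩
      have ho : orderOf p = 5 := orderOf_eq_prime (F.exp p F.pP) F.p1
      exact pow_injOn_Iio_orderOf (by rw [ho]; exact hm) (by rw [ho]; exact hn) e
    have hinj : Function.Injective f := by
      intro u v e
      have e' := congrArg Subtype.val e
      fin_cases u <;> fin_cases v <;> simp [f] at e' ⊢
      · exact absurd (hp5 1 2 (by norm_num) (by norm_num) (by rw [pow_one]; exact e')) (by norm_num)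
      · exact absurd (hp5 1 4 (by norm_num) (by norm_num) (by rw [pow_one]; exact e')) (by norm_num)
      · exact absurd (hp5 2 1 (by norm_num) (by norm_num) (by rw [pow_one]; exact e')) (by norm_num)
      · exact absurd (hp5 2 4 (by norm_num) (by norm_num) e') (by norm_num)
      · exact absurd (hp5 4 1 (by norm_num) (by norm_num) (by rw [pow_one]; exact e')) (by norm_num)
      · exact absurd (hp5 4 2 (by norm_num) (by norm_num) e') (by norm_num)
    have := Nat.card_le_card_of_injective f hinj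
    rw [Nat.card_fin] at this
    omega
  have hia4 : i * a * i⁻¹ = a ^ 4 := by
    rw [F.ia]
    exact (inv_eq_of_mul_eq_one_left (by rw [← pow_succ]; exact F.exp a F.aP))
  have hipγ : i * γ * p * (i * γ)⁻¹ = p ^ 2 := by
    rw [show i * γ * p * (i * γ)⁻¹ = i * (γ * p * γ⁻¹) * i⁻¹ by group, hγp, ← conj_pow,
      conj_fix_iff.2 F.ip]
  have hiaγ : i * γ * a * (i * γ)⁻¹ = a ^ (4 * d) := by
    rw [show i * γ * a * (i * γ)⁻¹ = i * (γ * a * γ⁻¹) * i⁻¹ by group, hCd, ← conj_pow, hia4, pow_mul]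
  have hfin : ∀ σ ∈ NP (P : Subgroup G), σ * p * σ⁻¹ = p ^ 2 → σ * a * σ⁻¹ = a ^ 2 →
      ∀ c ∈ (P : Subgroup G), σ * c * σ⁻¹ = c ^ 2 := by
    intro σ _ h1 h2 c hc
    obtain ⟨r, s, rfl⟩ := F.gen hc
    rw [show σ * (p ^ r * a ^ s) * σ⁻¹ = (σ * p ^ r * σ⁻¹) * (σ * a ^ s * σ⁻¹) by group, ← conj_pow,
      ← conj_pow, h1, h2, (((show Commute p a from F.comm F.pP F.aP).pow_pow r s)).mul_pow,
      ← pow_mul, ← pow_mul, ← pow_mul, ← pow_mul, mul_comm 2 r, mul_comm 2 s]
  have key : ∀ u : ZMod 5, u = 0 ∨ u = 1 ∨ 4 * u = 1 ∨ u = 2 ∨ 4 * u = 2 := by decide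
  rcases key (d : ZMod 5) with e | e | e | e | e
  · exfalso
    rw [pow_cast (F.exp a F.aP) (e.trans Nat.cast_zero.symm), pow_zero] at hCd
    rw [mul_inv_eq_one, mul_eq_left] at hCd
    exact F.a1 hCd
  · exact absurd (by rw [hCd, pow_cast (F.exp a F.aP) (e.trans Nat.cast_one.symm), pow_one])
      (hbad γ hγ hγp)
  · exact absurd (by rw [hiaγ, pow_cast (F.exp a F.aP) (s := 1) (by push_cast; exact e), pow_one])
      (hbad (i * γ) (mul_mem F.iN hγ) hipγ)
  · exact ⟨γ, hγ, hfin γ hγ hγp (by rw [hCd, pow_cast (F.exp a F.aP) (s := 2) (by push_cast; exact e)])⟩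
  · exact ⟨i * γ, mul_mem F.iN hγ, hfin _ (mul_mem F.iN hγ) hipγ
      (by rw [hiaγ, pow_cast (F.exp a F.aP) (s := 2) (by push_cast; exact e)])⟩

end Frame

end CfsgLib.SuzukiType
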