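import Cfsg.Agent.Lib.SuzukiType.SecondFive

/-!
A self-centralising subgroup of order twenty five generated by `p` and an element `a` of the
alternating part of `C(p)`, and involutions normalising or centralising parts of it.
-/

set_option autoImplicit false
set_option linter.unusedSectionVars false
set_option linter.style.haveILetI false
set_option maxRecDepth 100000
set_option synthInstance.maxSize 2000

namespace CfsgLib.SuzukiType

open Cfsg CentTools Equiv

universe u₀

/-- A five-cycle. -/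
def cSix : alternatingGroup (Fin 6) :=
  ⟨swap 0 1 * swap 1 2 * (swap 2 3 * swap 3 4), Equiv.Perm.mem_alternatingGroup.2 (by decide)⟩

/-- An involution inverting it. -/
def iSix : alternatingGroup (Fin 6) :=
  ⟨swap 1 4 * swap 2 3, Equiv.Perm.mem_alternatingGroup.2 (by decide)⟩

theorem six_vals : cSix ^ 5 = 1 ∧ cSix ≠ 1 ∧ iSix * cSix * iSix⁻¹ = cSix⁻¹ := by
  decide +kernel

theorem six_cent : ∀ g : Equiv.Perm (Fin 6), g * (cSix : Equiv.Perm (Fin 6)) = cSix * g →
    g = 1 ∨ g = cSix ∨ g = ((cSix ^ 2 : alternatingGroup (Fin 6)) : Equiv.Perm (Fin 6)) ∨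
      g = ((cSix ^ 3 : alternatingGroup (Fin 6)) : Equiv.Perm (Fin 6)) ∨
      g = ((cSix ^ 4 : alternatingGroup (Fin 6)) : Equiv.Perm (Fin 6)) := by
  decide +kernel

theorem six_cent' (g : alternatingGroup (Fin 6)) (h : g * cSix = cSix * g) :
    ∃ j : ℕ, g = cSix ^ j := by
  rcases six_cent g (congrArg Subtype.val h) with e | e | e | e | e
  · exact ⟨0, Subtype.ext (by rw [pow_zero]; exact e)⟩
  · exact ⟨1, Subtype.ext (by rw [pow_one]; exact e)⟩
  · exact ⟨2, Subtype.ext e⟩
  · exact ⟨3, Subtype.ext e⟩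
  · exact ⟨4, Subtype.ext e⟩

variable {G : Type u₀} [Group G] [Finite G]
variable {z : G} {Qf : G → Subgroup G} {θ : G → V} {ρ : G → O} {J : Subgroup O}
variable {y h t u k n x : G}

/-- The data at a subgroup `⟨p, a⟩` of order twenty five. -/
structure FivePair (z p a i e : G) : Prop where
  pz : p * z = z * p
  p5 : p ^ 5 = 1
  p1 : p ≠ 1
  a5 : a ^ 5 = 1
  ap : a * p = p * a
  a_not : a ∉ Subgroup.zpowers p
  self : ∀ c, c * p = p * c → c * a = a * c → ∃ r s : ℕ, c = p ^ r * a ^ s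
  ip : i * p = p * i
  ia : i * a * i⁻¹ = a⁻¹
  e2 : e * e = 1
  e1 : e ≠ 1
  ea : e * a = a * e
  card : Nat.card (Subgroup.centralizer ({p} : Set G)) = 1800

namespace Second

variable (S : Second z Qf θ ρ J y h t u k n x)
include S

theorem exists_five_pair : ∃ p a i e, FivePair z p a i e := by
  classical
  haveI : Fact (Nat.Prime 5) := ⟨Nat.prime_five⟩
  obtain ⟨p, γ, D⟩ := S.toSetting.exists_five
  have hop := S.toSetting.five_order D
  have hquot := S.five_quot D
  set X := Subgroup.centralizer ({p} : Set G) with hX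
  obtain ⟨φ, hφ, hk⟩ := hquot
  have hXm : ∀ c : X, (c : G) * p = p * c := fun c => Subgroup.mem_centralizer_singleton_iff.1 c.2
  have hA : Nat.card (alternatingGroup (Fin 6)) = 360 := InvChar.HJSylow.card_alt_six.1
  let p' : X := ⟨p, Subgroup.mem_centralizer_singleton_iff.2 rfl⟩
  have hker : Nat.card φ.ker = 5 := by
    refine Eq.trans ?_ (S.toSetting.five_card D)
    exact Nat.card_congr
      { toFun := fun c => ⟨((c : X) : G), (hk _).1 c.2⟩
        invFun := fun c => ⟨⟨c, Subgroup.zpowers_le.2 p'.2 c.2⟩, (hk _).2 c.2⟩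
        left_inv := fun c => rfl
        right_inv := fun c => rfl }
  have hcard : Nat.card X = 1800 := by
    rw [← φ.ker.card_mul_index, Subgroup.index_ker, MonoidHom.range_eq_top.2 hφ, Subgroup.card_top,
      hker, hA]
  set L := commutator X with hL
  have hLmap : L.map φ = ⊤ := by
    rw [hL, _root_.commutator_def, Subgroup.map_commutator, Subgroup.map_top_of_surjective φ hφ,
      ← _root_.commutator_def, commutator_alternatingGroup_eq_top (by rw [Nat.card_fin]; norm_num)]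
  -- the central element is not in the derived subgroup
  have hpL : p' ∉ L := by
    intro hp
    obtain ⟨P⟩ := (inferInstance : Nonempty (Sylow 5 X))
    have hP25 : Nat.card (P : Subgroup X) = 25 := by
      rw [CfsgLib.SmallGroups.card_sylow_eq (m := 72) (a := 2) (by rw [hcard]; norm_num) (by norm_num) P]
      norm_num
    haveI : IsMulCommutative (P : Subgroup X) :=
      IsPGroup.isMulCommutative_of_card_eq_prime_sq (p := 5) (by rw [hP25]; norm_num)
    letI : CommGroup (P : Subgroup X) :=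
      { (inferInstance : Group (P : Subgroup X)) with
        mul_comm := fun a b => IsMulCommutative.is_comm.comm a b }
    haveI : (P : Subgroup X).FiniteIndex := Subgroup.finiteIndex_of_finite
    have hcentral : ∀ c : X, c * p' = p' * c := fun c => Subtype.ext (hXm c)
    have hpP : p' ∈ (P : Subgroup X) := by
      haveI : (Subgroup.zpowers p').Normal := ⟨fun b hb g => by
        obtain ⟨j, rfl⟩ := Subgroup.mem_zpowers_iff.1 hb
        rw [((show Commute g p' from hcentral g).zpow_right j).mul_inv_cancel]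
        exact hb⟩
      exact (IsPGroup.of_card (n := 1) (by
        rw [Nat.card_zpowers, ← Subgroup.orderOf_coe, hop, pow_one]) :
        IsPGroup 5 (Subgroup.zpowers p')).le_sylow_of_normal P (Subgroup.mem_zpowers p')
    let T := MonoidHom.transfer (MonoidHom.id (P : Subgroup X))
    have hT : T p' = 1 := by
      have hle : L ≤ T.ker := Abelianization.commutator_subset_ker T
      exact hle hp
    rw [show T p' = _ from MonoidHom.transfer_eq_pow (MonoidHom.id (P : Subgroup X)) p'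
      (fun j g₀ _ => by
        rw [mul_assoc, ((show Commute g₀ p' from hcentral g₀).pow_right j).symm.eq, ← mul_assoc,
          inv_mul_cancel, one_mul])] at hT
    have h1 : p' ^ (P : Subgroup X).index = 1 := congrArg Subtype.val hT
    refine P.not_dvd_index ?_
    have h2 := orderOf_dvd_of_pow_eq_one h1
    rwa [← Subgroup.orderOf_coe, show orderOf ((p' : X) : G) = 5 from hop] at h2
  have hinj : ∀ c ∈ L, φ c = 1 → c = 1 := by
    intro c hc h1
    by_contra hne
    have hcp : (c : G) ∈ Subgroup.zpowers p := (hk c).1 h1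
    have hz := InvChar.HJSylow.zpowers_eq_of_card Nat.prime_five (S.toSetting.five_card D) hcp
      (fun e => hne (Subtype.ext e))
    obtain ⟨j, hj⟩ := (hz ▸ Subgroup.mem_zpowers p : p ∈ Subgroup.zpowers (c : G))
    simp only at hj
    exact hpL ((show c ^ j = p' from Subtype.ext (by rw [Subgroup.coe_zpow]; exact hj)) ▸
      zpow_mem hc j)
  have hinj2 : ∀ c ∈ L, ∀ d ∈ L, φ c = φ d → c = d := fun c hc d hd e =>
    mul_inv_eq_one.1 (hinj _ (mul_mem hc (inv_mem hd)) (by rw [map_mul, map_inv, e, mul_inv_cancel]))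
  have hsurj : ∀ g, ∃ c ∈ L, φ c = g := fun g => (hLmap ▸ Subgroup.mem_top g : g ∈ L.map φ)
  obtain ⟨a, haL, ha⟩ := hsurj cSix
  obtain ⟨i, hiL, hi⟩ := hsurj iSix
  have ha5 : a ^ 5 = 1 := hinj _ (pow_mem haL 5) (by rw [map_pow, ha, six_vals.1])
  have ha5' : (a : G) ^ 5 = 1 := by rw [← Subgroup.coe_pow, ha5, Subgroup.coe_one]
  have hia : i * a * i⁻¹ = a⁻¹ :=
    hinj2 _ (mul_mem (mul_mem hiL haL) (inv_mem hiL)) _ (inv_mem haL)
      (by rw [map_mul, map_mul, map_inv, map_inv, hi, ha, six_vals.2.2])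
  have hia' : (i : G) * a * (i : G)⁻¹ = (a : G)⁻¹ := congrArg Subtype.val hia
  -- the element squaring `p`
  have hγX : ∀ c ∈ X, γ * c * γ⁻¹ ∈ X := by
    intro c hc
    refine Subgroup.mem_centralizer_singleton_iff.2 ?_
    have h1 : Commute (γ * c * γ⁻¹) (p * p) :=
      PairSetting.conj_comm rfl D.γp (Subgroup.mem_centralizer_singleton_iff.1 hc)
    have h2 := h1.pow_right 3
    rw [show (p * p) ^ 3 = p ^ 5 * p by simp only [pow_succ, pow_zero, one_mul, mul_assoc], D.p5,
      one_mul] at h2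
    exact h2.eq
  have hXmap : X.map (MulAut.conj γ).toMonoidHom = X :=
    Subgroup.eq_of_le_of_card_ge (by rintro _ ⟨c, hc, rfl⟩; exact hγX c hc)
      (by rw [Subgroup.card_map_of_injective (MulAut.conj γ).injective])
  have hLG : L.map X.subtype = ⁅X, X⁆ := X.map_subtype_commutator
  have hγL : ∀ c ∈ L, ∀ hc : γ * (c : G) * γ⁻¹ ∈ X, (⟨_, hc⟩ : X) ∈ L := by
    intro c hc hc'
    have hmap : (⁅X, X⁆ : Subgroup G).map (MulAut.conj γ).toMonoidHom = ⁅X, X⁆ := by
      rw [Subgroup.map_commutator, hXmap]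
    have h1 : γ * (c : G) * γ⁻¹ ∈ (⁅X, X⁆ : Subgroup G) := by
      rw [← hmap]
      exact ⟨c, hLG ▸ ⟨c, hc, rfl⟩, rfl⟩
    rw [← hLG] at h1
    obtain ⟨d, hd, e⟩ := h1
    rwa [show (⟨_, hc'⟩ : X) = d from Subtype.ext e.symm]
  set b : X := ⟨γ * a * γ⁻¹, hγX a a.2⟩ with hb
  have hbL : b ∈ L := hγL a haL _
  have hob : orderOf (φ b) = 5 := by
    refine orderOf_eq_prime ?_ fun e => ?_
    · rw [← map_pow, show b ^ 5 = 1 from Subtype.ext (by
        rw [Subgroup.coe_pow, conj_pow, ha5']; simp), map_one]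
    · have h1 : (γ * a * γ⁻¹ : G) = 1 := congrArg Subtype.val (hinj b hbL e)
      rw [mul_inv_eq_one, mul_eq_left] at h1
      rw [show a = 1 from Subtype.ext h1, map_one] at ha
      exact six_vals.2.1 ha.symm
  obtain ⟨g, -, hg⟩ := conj_of_not_sq_dvd (p := 5) (K := (⊤ : Subgroup (alternatingGroup (Fin 6))))
    (A := Subgroup.zpowers (φ b)) (B := Subgroup.zpowers cSix) le_top le_top
    (by rw [Nat.card_zpowers, hob])
    (by rw [Nat.card_zpowers, orderOf_eq_prime six_vals.1 six_vals.2.1])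
    (by rw [Subgroup.card_top, hA]; norm_num)
  obtain ⟨r, hr⟩ : ∃ r : ℕ, cSix ^ r = g * φ b * g⁻¹ :=
    mem_powers_iff_mem_zpowers.2 (hg _ (Subgroup.mem_zpowers _))
  obtain ⟨l, hlL, hl⟩ := hsurj g
  have hlb : l * b * l⁻¹ = a ^ r :=
    hinj2 _ (mul_mem (mul_mem hlL hbL) (inv_mem hlL)) _ (pow_mem haL r)
      (by rw [map_mul, map_mul, map_inv, map_pow, hl, ha, hr])
  set γ' := (l : G) * γ with hγ'
  have hγp : γ' * p * γ'⁻¹ = p ^ 2 := by
    rw [hγ', show (l : G) * γ * p * ((l : G) * γ)⁻¹ = l * (γ * p * γ⁻¹) * (l : G)⁻¹ by group, D.γp,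
      ← pow_two, ((show Commute (l : G) p from hXm l).pow_right 2).mul_inv_cancel]
  have hγa : γ' * a * γ'⁻¹ = (a : G) ^ r := by
    rw [hγ', show (l : G) * γ * a * ((l : G) * γ)⁻¹ = l * (γ * a * γ⁻¹) * (l : G)⁻¹ by group]
    have := congrArg Subtype.val hlb
    simpa using this
  set δ₀ := γ' * γ' with hδ₀
  have hδp : δ₀ * p * δ₀⁻¹ = p ^ 4 := by
    rw [hδ₀, show γ' * γ' * p * (γ' * γ')⁻¹ = γ' * (γ' * p * γ'⁻¹) * γ'⁻¹ by group, hγp, ← conj_pow,
      hγp, ← pow_mul]
  have hδa : δ₀ * a * δ₀⁻¹ = (a : G) ^ (r * r) := by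
    rw [hδ₀, show γ' * γ' * a * (γ' * γ')⁻¹ = γ' * (γ' * a * γ'⁻¹) * γ'⁻¹ by group, hγa, ← conj_pow,
      hγa, ← pow_mul]
  have hmod : (a : G) ^ (r * r) = a ∨ (a : G) ^ (r * r) = (a : G)⁻¹ := by
    have h1 : (a : G) ^ (r * r) = (a : G) ^ ((r % 5) * (r % 5) % 5) := by
      rw [← Nat.mul_mod]
      exact (pow_eq_pow_mod _ ha5').trans rfl
    have h0 : (a : G) ^ (r * r) ≠ 1 := fun e => by
      rw [e] at hδa
      rw [mul_inv_eq_one, mul_eq_left] at hδa
      rw [show a = 1 from Subtype.ext hδa, map_one] at ha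
      exact six_vals.2.1 ha.symm
    have hlt : r % 5 < 5 := Nat.mod_lt _ (by norm_num)
    have h4 : (a : G) ^ 4 = (a : G)⁻¹ :=
      (inv_eq_of_mul_eq_one_left (by rw [← pow_succ]; exact ha5')).symm
    interval_cases hm : r % 5 <;> rw [h1] at h0 ⊢
    · exact absurd (pow_zero _) h0
    · exact Or.inl (pow_one _)
    · exact Or.inr h4
    · exact Or.inr h4
    · exact Or.inl (pow_one _)
  obtain ⟨δ, hδ1, hδ2⟩ : ∃ δ, δ * p * δ⁻¹ = p ^ 4 ∧ δ * a * δ⁻¹ = a := by
    rcases hmod with e | e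
    · exact ⟨δ₀, hδp, hδa.trans e⟩
    · refine ⟨i * δ₀, ?_, ?_⟩
      · rw [show (i : G) * δ₀ * p * ((i : G) * δ₀)⁻¹ = i * (δ₀ * p * δ₀⁻¹) * (i : G)⁻¹ by group, hδp,
          ((show Commute (i : G) p from hXm i).pow_right 4).mul_inv_cancel]
      · rw [show (i : G) * δ₀ * a * ((i : G) * δ₀)⁻¹ = i * (δ₀ * a * δ₀⁻¹) * (i : G)⁻¹ by group, hδa,
          e, ← conj_inv, hia', inv_inv]
  have hpow : ∀ j : ℕ, δ ^ j * p * (δ ^ j)⁻¹ = p ^ (4 ^ j) := by
    intro j
    induction j with
    | zero => simp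
    | succ j ih =>
      rw [pow_succ', show δ * δ ^ j * p * (δ * δ ^ j)⁻¹ = δ * (δ ^ j * p * (δ ^ j)⁻¹) * δ⁻¹ by group,
        ih, ← conj_pow, hδ1, ← pow_mul, pow_succ']
  obtain ⟨m, hm⟩ : Even (orderOf δ) := by
    by_contra hodd
    obtain ⟨m, hm⟩ := Nat.not_even_iff_odd.1 hodd
    have h1 := hpow (orderOf δ)
    rw [pow_orderOf_eq_one, one_mul, inv_one, mul_one, hm] at h1
    have h2 : 4 ^ (2 * m + 1) % 5 = 4 := by
      rw [pow_succ, pow_mul, Nat.mul_mod, Nat.pow_mod]
      norm_num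
    rw [pow_eq_pow_mod _ D.p5, h2] at h1
    have h3 : p ^ 3 = 1 := mul_left_cancel (a := p) (by rw [← pow_succ', mul_one]; exact h1.symm)
    have := orderOf_dvd_of_pow_eq_one h3
    rw [hop] at this
    norm_num at this
  refine ⟨p, a, i, δ ^ m, D.pz, D.p5, fun e => ?_, ha5', hXm a, fun h => ?_, fun c hcp hca => ?_,
    hXm i, hia', ?_, fun e => ?_, ((show Commute δ (a : G) from conj_fix_iff.1 hδ2).pow_left m).eq,
    hcard⟩
  · rw [e, orderOf_one] at hop; omega
  · have := (hk a).2 h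
    rw [ha] at this
    exact six_vals.2.1 this
  · obtain ⟨s, hs⟩ := six_cent' (φ ⟨c, Subgroup.mem_centralizer_singleton_iff.2 hcp⟩) (by
      rw [← ha, ← map_mul, ← map_mul]
      exact congrArg φ (Subtype.ext hca))
    set c' : X := ⟨c, Subgroup.mem_centralizer_singleton_iff.2 hcp⟩
    have h1 : φ (c' * (a ^ s)⁻¹) = 1 := by rw [map_mul, map_inv, map_pow, ha, hs, mul_inv_cancel]
    obtain ⟨r', hr'⟩ : ∃ r' : ℕ, p ^ r' = c * ((a : G) ^ s)⁻¹ :=
      mem_powers_iff_mem_zpowers.2 (by simpa [c'] using (hk _).1 h1)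
    exact ⟨r', s, by rw [hr', inv_mul_cancel_right]⟩
  · rw [← pow_add, ← hm, pow_orderOf_eq_one]
  · have hpos := orderOf_pos δ
    have := Nat.le_of_dvd (by omega) (orderOf_dvd_of_pow_eq_one e)
    omega

end Second

end CfsgLib.SuzukiType
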