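import Cfsg.Agent.Lib.SuzukiType.FivePair

/-!
Sylow subgroups for the prime five have order twenty five and are self-centralising; elements of
order five commuting with an involution have a centraliser of order dividing 1800.
-/

set_option autoImplicit false
set_option linter.unusedSectionVars false
set_option linter.style.haveILetI false
set_option maxRecDepth 100000
set_option synthInstance.maxSize 2000

namespace CfsgLib.SuzukiType

open Cfsg CentTools
open scoped Pointwise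

universe u₀

variable {G : Type u₀} [Group G] [Finite G]

theorem pow_cast {a : G} (ha : a ^ 5 = 1) {r s : ℕ} (h : (r : ZMod 5) = s) : a ^ r = a ^ s := by
  rw [pow_eq_pow_mod r ha, pow_eq_pow_mod s ha]
  rw [ZMod.natCast_eq_natCast_iff'] at h
  rw [h]

theorem two_inj {p a : G} (hp : p ^ 5 = 1) (hp1 : p ≠ 1) (ha : a ^ 5 = 1)
    (hn : a ∉ Subgroup.zpowers p) {r s r' s' : ℕ} (he : p ^ r * a ^ s = p ^ r' * a ^ s') :
    (r : ZMod 5) = r' ∧ (s : ZMod 5) = s' := by
  haveI : Fact (Nat.Prime 5) := ⟨Nat.prime_five⟩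
  have hop : orderOf p = 5 := orderOf_eq_prime hp hp1
  have hs : (s : ZMod 5) = s' := by
    by_contra hne
    apply hn
    obtain ⟨d, hd⟩ : ∃ d : ℕ, (d : ZMod 5) = (s : ZMod 5) - s' :=
      ⟨((s : ZMod 5) - s').val, ZMod.natCast_zmod_val _⟩
    have h1 : a ^ s = a ^ (d + s') := pow_cast ha (by push_cast; rw [hd, sub_add_cancel])
    rw [h1, pow_add, ← mul_assoc] at he
    have h2 : a ^ d = (p ^ r)⁻¹ * p ^ r' := by
      rw [← mul_right_cancel he]; group
    have hd0 : (d : ZMod 5) ≠ 0 := by rw [hd]; exact sub_ne_zero.2 hne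
    obtain ⟨k, hk⟩ : ∃ k : ℕ, ((d * k : ℕ) : ZMod 5) = ((1 : ℕ) : ZMod 5) :=
      ⟨((d : ZMod 5)⁻¹).val, by
        rw [Nat.cast_mul, ZMod.natCast_zmod_val, mul_inv_cancel₀ hd0, Nat.cast_one]⟩
    have h3 : a = (a ^ d) ^ k := by
      rw [← pow_mul, pow_cast ha hk, pow_one]
    rw [h3, h2]
    exact pow_mem (mul_mem (inv_mem (pow_mem (Subgroup.mem_zpowers p) r))
      (pow_mem (Subgroup.mem_zpowers p) r')) k
  refine ⟨?_, hs⟩
  rw [pow_cast ha hs] at he
  have h1 := mul_right_cancel he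
  rw [pow_eq_pow_iff_modEq, hop] at h1
  exact (ZMod.natCast_eq_natCast_iff _ _ _).2 h1

theorem solve_k : ∀ a b : ZMod 5, a ≠ 0 → ∃ k : ZMod 5, k * a = b := by decide

theorem fixed_line : ∀ u v j : ZMod 5, u * (1 - j) = 0 → v * (1 + j) = 0 → u = 0 ∨ v = 0 := by
  decide

variable {z : G} {Qf : G → Subgroup G} {θ : G → V} {ρ : G → O} {J : Subgroup O}
variable {y h t u k n x : G}

namespace Second

variable (S : Second z Qf θ ρ J y h t u k n x)
include S

/-- Every involution is conjugate to `z` or to `t`. -/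
theorem involution_conj {i : G} (h2 : i * i = 1) (h1 : i ≠ 1) : IsConj i z ∨ IsConj i t := by
  haveI : Fact (Nat.Prime 2) := ⟨Nat.prime_two⟩
  obtain ⟨s₀, u₀, T0⟩ := S.toPairSetting.exists_T0
  obtain ⟨c, hc⟩ := S.toSetting.exists_conj_comm S.core.extra.1.1
    (orderOf_eq_prime (by rw [pow_two]; exact h2) h1)
  obtain ⟨c2, c1⟩ := S.toSetting.conj_involution (c := c) h2 h1
  have hic : IsConj i (c * i * c⁻¹) := isConj_iff.2 ⟨c, rfl⟩
  have htt : IsConj t (s₀ * u₀) :=
    (S.toPairSetting.isConj_cases T0 S.zt.symm S.t_sq S.t_ne).resolve_left fun e =>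
      S.not_z_t e.symm
  rcases S.toPairSetting.isConj_cases T0 hc c2 c1 with e | e
  · exact Or.inl (hic.trans e)
  · exact Or.inr ((hic.trans e).trans htt.symm)

theorem card_cent_conj' {a g : G} :
    Nat.card (Subgroup.centralizer ({g * a * g⁻¹} : Set G)) =
      Nat.card (Subgroup.centralizer ({a} : Set G)) :=
  InvChar.HJSylow.card_cent_conj g a

/-- The centraliser of an element of order five commuting with an involution. -/
theorem five_cent {w e : G} (hw : w ^ 5 = 1) (hw1 : w ≠ 1) (he : e * e = 1) (he1 : e ≠ 1)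
    (hwe : w * e = e * w) : Nat.card (Subgroup.centralizer ({w} : Set G)) ∣ 1800 := by
  haveI : Fact (Nat.Prime 5) := ⟨Nat.prime_five⟩
  have horder : ∀ g, orderOf (g * w * g⁻¹) = 5 := fun g => by
    rw [InvChar.HJSylow.orderOf_conj', orderOf_eq_prime hw hw1]
  rcases S.involution_conj he he1 with hz | ht
  · obtain ⟨g, hg⟩ := isConj_iff.1 hz
    have hwz : g * w * g⁻¹ * z = z * (g * w * g⁻¹) := PairSetting.conj_comm rfl hg hwe
    obtain ⟨p, a, i, e', P⟩ := S.exists_five_pair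
    have hop : orderOf p = 5 := orderOf_eq_prime P.p5 P.p1
    obtain ⟨d, -, hd⟩ := conj_of_not_sq_dvd (p := 5) (K := Subgroup.centralizer ({z} : Set G))
      (A := Subgroup.zpowers (g * w * g⁻¹)) (B := Subgroup.zpowers p)
      (Subgroup.zpowers_le.2 (Subgroup.mem_centralizer_singleton_iff.2 hwz))
      (Subgroup.zpowers_le.2 (Subgroup.mem_centralizer_singleton_iff.2 P.pz))
      (by rw [Nat.card_zpowers, horder]) (by rw [Nat.card_zpowers, hop]) (S.toSetting.not_25 le_rfl)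
    have hm := hd _ (Subgroup.mem_zpowers _)
    have hcv : Nat.card (Subgroup.centralizer ({d * (g * w * g⁻¹) * d⁻¹} : Set G)) = 1800 := by
      rw [← P.card]
      have hz' := InvChar.HJSylow.zpowers_eq_of_card Nat.prime_five
        (by rw [Nat.card_zpowers, hop]) hm fun h => by
          have := horder g
          rw [mul_inv_eq_one, mul_eq_left] at h
          rw [h, orderOf_one] at this
          omega
      rw [← Subgroup.centralizer_closure, ← Subgroup.zpowers_eq_closure, hz',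
        Subgroup.zpowers_eq_closure, Subgroup.centralizer_closure]
    rw [S.card_cent_conj', S.card_cent_conj'] at hcv
    rw [hcv]
  · obtain ⟨g, hg⟩ := isConj_iff.1 ht
    have hwt : g * w * g⁻¹ ∈ HT t := mem_HT.2 (PairSetting.conj_comm rfl hg hwe)
    have hN := S.odd_mem_NT hwt (p := 5) (by decide) (by rw [conj_pow, hw]; group)
    have hd := S.card_cent (Or.inl rfl) (Subgroup.zpowers_le.2 hN)
      (by rw [Nat.card_zpowers, horder])
    rw [Subgroup.zpowers_eq_closure, Subgroup.centralizer_closure, S.card_cent_conj'] at hd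
    exact hd.trans (by norm_num)

/-- Sylow subgroups for the prime five. -/
theorem five_sylow (P : Sylow 5 G) :
    Nat.card (P : Subgroup G) = 25 ∧ (∀ a ∈ (P : Subgroup G), a ^ 5 = 1) ∧
      ∀ c, (∀ a ∈ (P : Subgroup G), c * a = a * c) → c ∈ (P : Subgroup G) := by
  classical
  haveI : Fact (Nat.Prime 5) := ⟨Nat.prime_five⟩
  obtain ⟨p, a, i, e, F⟩ := S.exists_five_pair
  set P0 := Subgroup.centralizer ({p} : Set G) ⊓ Subgroup.centralizer ({a} : Set G) with hP0
  have hmem : ∀ c, c ∈ P0 ↔ c * p = p * c ∧ c * a = a * c := fun c => by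
    rw [hP0, Subgroup.mem_inf, Subgroup.mem_centralizer_singleton_iff,
      Subgroup.mem_centralizer_singleton_iff]
  have hpm : ∀ r s : ℕ, p ^ r * a ^ s ∈ P0 := fun r s => (hmem _).2
    ⟨comm_mul (Commute.pow_self p r).eq ((show Commute a p from F.ap).pow_left s).eq,
      comm_mul ((show Commute p a from F.ap.symm).pow_left r).eq (Commute.pow_self a s).eq⟩
  have hp5 : ∀ c ∈ P0, c ^ 5 = 1 := by
    intro c hc
    obtain ⟨r, s, rfl⟩ := F.self c ((hmem c).1 hc).1 ((hmem c).1 hc).2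
    rw [((show Commute p a from F.ap.symm).pow_pow r s).mul_pow, ← pow_mul, mul_comm, pow_mul, F.p5,
      one_pow, one_mul, ← pow_mul, mul_comm, pow_mul, F.a5, one_pow]
  have hP0c : Nat.card P0 = 25 := by
    let f : Fin 5 × Fin 5 → P0 := fun w => ⟨p ^ (w.1 : ℕ) * a ^ (w.2 : ℕ), hpm _ _⟩
    have hf : Function.Bijective f := by
      constructor
      · intro v w hvw
        obtain ⟨h1, h2⟩ := two_inj F.p5 F.p1 F.a5 F.a_not (congrArg Subtype.val hvw)
        rw [ZMod.natCast_eq_natCast_iff', Nat.mod_eq_of_lt v.1.2, Nat.mod_eq_of_lt w.1.2] at h1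
        rw [ZMod.natCast_eq_natCast_iff', Nat.mod_eq_of_lt v.2.2, Nat.mod_eq_of_lt w.2.2] at h2
        exact Prod.ext (Fin.ext h1) (Fin.ext h2)
      · rintro ⟨c, hc⟩
        obtain ⟨r, s, rfl⟩ := F.self c ((hmem c).1 hc).1 ((hmem c).1 hc).2
        exact ⟨(⟨r % 5, Nat.mod_lt _ (by norm_num)⟩, ⟨s % 5, Nat.mod_lt _ (by norm_num)⟩),
          Subtype.ext (by
            show p ^ (r % 5) * a ^ (s % 5) = p ^ r * a ^ s
            rw [← pow_eq_pow_mod r F.p5, ← pow_eq_pow_mod s F.a5])⟩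
    rw [← Nat.card_congr (Equiv.ofBijective f hf)]
    simp only [Nat.card_prod, Nat.card_fin]
  have hp0 : IsPGroup 5 P0 := IsPGroup.of_card (n := 2) (by rw [hP0c]; norm_num)
  obtain ⟨Q, hQ⟩ := hp0.exists_le_sylow
  have hQP : (Q : Subgroup G) = P0 := by
    by_contra hne
    have hlt : P0 < (Q : Subgroup G) := lt_of_le_of_ne hQ (Ne.symm hne)
    haveI : Nontrivial (Q : Subgroup G) := by
      refine ⟨⟨⟨p, hQ ((hmem p).2 ⟨rfl, F.ap.symm⟩)⟩, 1, fun h => F.p1 (congrArg Subtype.val h)⟩⟩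
    haveI := Q.2.center_nontrivial
    obtain ⟨l', hl'⟩ := exists_ne (1 : Subgroup.center (Q : Subgroup G))
    set l : G := ((l' : (Q : Subgroup G)) : G) with hldef
    have hlQ : ∀ c ∈ (Q : Subgroup G), c * l = l * c := fun c hc =>
      congrArg Subtype.val (Subgroup.mem_center_iff.1 l'.2 ⟨c, hc⟩)
    have hl0 : l ∈ P0 := (hmem l).2
      ⟨(hlQ p (hQ ((hmem p).2 ⟨rfl, F.ap.symm⟩))).symm, (hlQ a (hQ ((hmem a).2 ⟨F.ap, rfl⟩))).symm⟩
    have hl1 : l ≠ 1 := fun h => hl' (Subtype.ext (Subtype.ext h))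
    have hlo : orderOf l = 5 := orderOf_eq_prime (hp5 l hl0) hl1
    obtain ⟨j, hj⟩ := Q.2.exists_card_eq
    have hno : ∀ w, w * w = 1 → w ≠ 1 → ¬ l * w = w * l := by
      intro w w2 w1 hw
      have h1 := S.five_cent (hp5 l hl0) hl1 w2 w1 hw
      have h2 : Nat.card (Q : Subgroup G) ∣ 1800 := dvd_trans
        (Subgroup.card_dvd_of_le fun c hc => Subgroup.mem_centralizer_singleton_iff.2 (hlQ c hc)) h1
      have h3 : 25 < Nat.card (Q : Subgroup G) := by
        rw [← hP0c]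
        exact lt_of_le_of_ne (Subgroup.card_le_of_le hQ) fun h =>
          hlt.ne (Subgroup.eq_of_le_of_card_ge hQ h.ge)
      rw [hj] at h2 h3
      have h4 : 3 ≤ j := by
        by_contra h5
        interval_cases j <;> norm_num at h3
      have h6 := (pow_dvd_pow 5 h4).trans h2
      norm_num at h6
    have hlp : l ∉ Subgroup.zpowers p := fun h => by
      obtain ⟨r, hr⟩ := h
      simp only at hr
      refine hno z ?_ S.toSetting.z_ne ?_
      · exact S.toSetting.z_sq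
      · rw [← hr]; exact ((show Commute p z from F.pz).zpow_left r).eq
    have hgen : ∀ c ∈ P0, ∃ r s : ℕ, c = p ^ r * l ^ s := by
      let f : Fin 5 × Fin 5 → P0 := fun w => ⟨p ^ (w.1 : ℕ) * l ^ (w.2 : ℕ),
        mul_mem (pow_mem ((hmem p).2 ⟨rfl, F.ap.symm⟩) _) (pow_mem hl0 _)⟩
      have hf : Function.Bijective f := by
        refine Function.Injective.bijective_of_nat_card_le (fun v w hvw => ?_) ?_
        · obtain ⟨h1, h2⟩ := two_inj F.p5 F.p1 (hp5 l hl0) hlp (congrArg Subtype.val hvw)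
          rw [ZMod.natCast_eq_natCast_iff', Nat.mod_eq_of_lt v.1.2, Nat.mod_eq_of_lt w.1.2] at h1
          rw [ZMod.natCast_eq_natCast_iff', Nat.mod_eq_of_lt v.2.2, Nat.mod_eq_of_lt w.2.2] at h2
          exact Prod.ext (Fin.ext h1) (Fin.ext h2)
        · rw [hP0c]; simp
      intro c hc
      obtain ⟨w, hw⟩ := hf.2 ⟨c, hc⟩
      exact ⟨w.1, w.2, (congrArg Subtype.val hw).symm⟩
    -- an element normalising `P0`
    obtain ⟨g, hgQ, hgN, hg0⟩ : ∃ g ∈ (Q : Subgroup G), (∀ c ∈ P0, g * c * g⁻¹ ∈ P0) ∧ g ∉ P0 := by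
      haveI := Q.2.isNilpotent
      have hnc := Group.normalizerCondition_of_isNilpotent (G := (Q : Subgroup G))
      have hlt' : P0.subgroupOf (Q : Subgroup G) < ⊤ := lt_top_iff_ne_top.2 fun h =>
        hlt.2 fun c hc => (h ▸ Subgroup.mem_top (⟨c, hc⟩ : (Q : Subgroup G)) :
          (⟨c, hc⟩ : (Q : Subgroup G)) ∈ P0.subgroupOf (Q : Subgroup G))
      obtain ⟨g, hg, hgn⟩ := SetLike.exists_of_lt (hnc _ hlt')
      exact ⟨g, g.2, fun c hc => (Subgroup.mem_normalizer_iff.1 hg ⟨c, hQ hc⟩).1 hc, hgn⟩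
    have hgl : g * l * g⁻¹ = l := conj_fix_iff.2 (hlQ g hgQ)
    obtain ⟨r, s, hrs⟩ := hgen _ (hgN p ((hmem p).2 ⟨rfl, F.ap.symm⟩))
    have hcl : Commute p l := ((hmem l).1 hl0).1.symm
    have hit : ∀ m : ℕ, ∃ s' : ℕ, g ^ m * p * (g ^ m)⁻¹ = p ^ (r ^ m) * l ^ s' := by
      intro m
      induction m with
      | zero => exact ⟨0, by simp⟩
      | succ m ih =>
        obtain ⟨s', hs'⟩ := ih
        refine ⟨s * r ^ m + s', ?_⟩
        rw [pow_succ', show g * g ^ m * p * (g * g ^ m)⁻¹ = g * (g ^ m * p * (g ^ m)⁻¹) * g⁻¹ by group,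
          hs', show g * (p ^ r ^ m * l ^ s') * g⁻¹ = (g * p ^ r ^ m * g⁻¹) * (g * l ^ s' * g⁻¹) by group,
          ← conj_pow, ← conj_pow, hgl, hrs, (hcl.pow_pow r s).mul_pow, ← pow_mul, ← pow_mul,
          mul_assoc, ← pow_add, ← pow_succ']
    have hr1 : (r : ZMod 5) = ((1 : ℕ) : ZMod 5) := by
      have hgj : g ^ 5 ^ j = 1 := by
        rw [← hj]
        exact orderOf_dvd_iff_pow_eq_one.1 (Subgroup.orderOf_dvd_natCard _ hgQ)
      obtain ⟨s', hs'⟩ := hit (5 ^ j)
      rw [hgj, one_mul, inv_one, mul_one] at hs'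
      obtain ⟨h1, -⟩ := two_inj F.p5 F.p1 (hp5 l hl0) hlp
        (r := 1) (s := 0) (r' := r ^ (5 ^ j)) (s' := s') (by rw [pow_one, pow_zero, mul_one]; exact hs')
      rw [Nat.cast_pow, ZMod.pow_card_pow] at h1
      exact h1.symm
    rw [pow_cast F.p5 hr1, pow_one] at hrs
    have hs0 : (s : ZMod 5) ≠ 0 := fun h => by
      rw [pow_cast (hp5 l hl0) (h.trans Nat.cast_zero.symm), pow_zero, mul_one] at hrs
      have hgp : Commute g p := conj_fix_iff.1 hrs
      refine hg0 ((hmem g).2 ⟨hgp.eq, ?_⟩)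
      obtain ⟨r₁, s₁, h1⟩ := hgen a ((hmem a).2 ⟨F.ap, rfl⟩)
      rw [h1]
      exact ((hgp.pow_right r₁).mul_right
        ((show Commute g l from hlQ g hgQ).pow_right s₁)).eq
    have hgm : ∀ m : ℕ, g ^ m * p * (g ^ m)⁻¹ = p * l ^ (s * m) := by
      intro m
      induction m with
      | zero => simp
      | succ m ih =>
        rw [pow_succ', show g * g ^ m * p * (g * g ^ m)⁻¹ = g * (g ^ m * p * (g ^ m)⁻¹) * g⁻¹ by group,
          ih, show g * (p * l ^ (s * m)) * g⁻¹ = (g * p * g⁻¹) * (g * l ^ (s * m) * g⁻¹) by group,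
          ← conj_pow, hgl, hrs, mul_assoc, ← pow_add]
        congr 2
        ring
    -- conjugation by `i` fixes the line of `l`
    obtain ⟨u₁, v₁, huv⟩ := F.self l ((hmem l).1 hl0).1 ((hmem l).1 hl0).2
    have hii : i * l * i⁻¹ = p ^ u₁ * a ^ (4 * v₁) := by
      rw [huv, show i * (p ^ u₁ * a ^ v₁) * i⁻¹ = (i * p ^ u₁ * i⁻¹) * (i * a ^ v₁ * i⁻¹) by group,
        ← conj_pow, ← conj_pow, conj_fix_iff.2 F.ip, F.ia, pow_mul,
        show a ^ 4 = a⁻¹ from (inv_eq_of_mul_eq_one_left (by rw [← pow_succ]; exact F.a5)).symm]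
    obtain ⟨r', j', hrj⟩ := hgen (i * l * i⁻¹) (hii ▸ hpm _ _)
    by_cases hr' : (r' : ZMod 5) = 0
    · rw [pow_cast F.p5 (hr'.trans Nat.cast_zero.symm), pow_zero, one_mul, hii, huv,
        ((show Commute p a from F.ap.symm).pow_pow u₁ v₁).mul_pow, ← pow_mul, ← pow_mul] at hrj
      obtain ⟨h1, h2⟩ := two_inj F.p5 F.p1 F.a5 F.a_not hrj
      push_cast at h1 h2
      have h5 : (5 : ZMod 5) = 0 := rfl
      rcases fixed_line (u₁ : ZMod 5) v₁ j' (by linear_combination h1)
        (by linear_combination (-1 : ZMod 5) * h2 + (v₁ : ZMod 5) * h5)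
        with h0 | h0
      · rw [pow_cast F.p5 (h0.trans Nat.cast_zero.symm), pow_zero, one_mul] at huv
        refine hno e F.e2 F.e1 ?_
        rw [huv]
        exact ((show Commute e a from F.ea).symm.pow_left v₁).eq
      · rw [pow_cast F.a5 (h0.trans Nat.cast_zero.symm), pow_zero, mul_one] at huv
        refine hno z S.toSetting.z_sq S.toSetting.z_ne ?_
        rw [huv]
        exact ((show Commute p z from F.pz).pow_left u₁).eq
    · obtain ⟨m, hm⟩ := solve_k ((s : ZMod 5) * r') (j' : ZMod 5) (mul_ne_zero hs0 hr')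
      have h1 : i * l * i⁻¹ = g ^ m.val * p ^ r' * (g ^ m.val)⁻¹ := by
        rw [← conj_pow, hgm, (hcl.pow_right _).mul_pow, ← pow_mul, hrj]
        congr 1
        refine pow_cast (hp5 l hl0) ?_
        push_cast
        rw [ZMod.natCast_zmod_val, ← hm]
        ring
      have h2 : (g ^ m.val * z * (g ^ m.val)⁻¹) * (i * l * i⁻¹) =
          i * l * i⁻¹ * (g ^ m.val * z * (g ^ m.val)⁻¹) := by
        rw [h1]
        exact PairSetting.conj_comm rfl rfl ((show Commute p z from F.pz).pow_left r').eq.symm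
      obtain ⟨w2, w1⟩ := S.toSetting.conj_involution (c := g ^ m.val) S.toSetting.z_sq S.toSetting.z_ne
      obtain ⟨v2, v1⟩ := S.toSetting.conj_involution (c := i⁻¹) w2 w1
      exact hno _ v2 v1
        (PairSetting.conj_comm (g := i⁻¹) (by group) rfl h2.symm)
  obtain ⟨g, rfl⟩ := MulAction.exists_smul_eq G Q P
  have hiff : ∀ c, c ∈ ((g • Q : Sylow 5 G) : Subgroup G) ↔ g⁻¹ * c * g ∈ P0 := fun c => by
    rw [← hQP]
    show c ∈ MulAut.conj g • (Q : Subgroup G) ↔ _
    rw [Subgroup.mem_pointwise_smul_iff_inv_smul_mem]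
    simp [MulAut.smul_def, mul_assoc]
  refine ⟨?_, fun c hc => ?_, fun c hc => (hiff c).2 ?_⟩
  · rw [← hP0c, ← hQP]
    exact Nat.card_congr (Subgroup.equivSMul (MulAut.conj g) (Q : Subgroup G)).symm.toEquiv
  · have h1 := hp5 _ ((hiff c).1 hc)
    rw [show g⁻¹ * c * g = g⁻¹ * c * g⁻¹⁻¹ by rw [inv_inv], conj_pow, mul_inv_eq_one,
      mul_eq_left] at h1
    exact h1
  · have hb : ∀ b ∈ P0, (g⁻¹ * c * g) * b = b * (g⁻¹ * c * g) := fun b hb =>
      PairSetting.conj_comm (g := g⁻¹) (by rw [inv_inv]) (by group)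
        (hc (g * b * g⁻¹) ((hiff _).2 (by rwa [show g⁻¹ * (g * b * g⁻¹) * g = b by group])))
    exact (hmem _).2 ⟨hb p ((hmem p).2 ⟨rfl, F.ap.symm⟩), hb a ((hmem a).2 ⟨F.ap, rfl⟩)⟩

end Second

end CfsgLib.SuzukiType
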