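import Mathlib
import Cfsg.Prelude.Def_Classical

/-!
The orthogonal space of minus type in dimension six over the field with two elements: coordinates,
the form, reflections and Siegel maps as functions, and the finite facts about them.
-/

set_option autoImplicit false
set_option maxRecDepth 100000
set_option synthInstance.maxSize 1000

namespace CfsgLib.SuzukiType

/-- Six coordinates, in the order of `Cfsg.quadFormMinus 2`. -/
abbrev Ix : Type := (Fin 2 ⊕ Fin 2) ⊕ Fin 2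

/-- The natural module. -/
abbrev V : Type := Ix → ZMod 2

/-- The vector with coordinates `x₁ x₂ y₁ y₂ z₁ z₂`. -/
def vec (a b c d g h : ZMod 2) : V := Sum.elim (Sum.elim ![a, b] ![c, d]) ![g, h]

theorem eq_vec (v : V) : v = vec (v (.inl (.inl 0))) (v (.inl (.inl 1))) (v (.inl (.inr 0)))
    (v (.inl (.inr 1))) (v (.inr 0)) (v (.inr 1)) := by
  funext i
  rcases i with (i | i) | i <;> fin_cases i <;> rfl

theorem forall_vec {P : V → Prop} : (∀ v, P v) ↔ ∀ a b c d g h : ZMod 2, P (vec a b c d g h) :=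
  ⟨fun H _ _ _ _ _ _ => H _, fun H v => by rw [eq_vec v]; exact H _ _ _ _ _ _⟩

/-- The quadratic form. -/
def q (v : V) : ZMod 2 :=
  v (.inl (.inl 0)) * v (.inl (.inr 0)) + v (.inl (.inl 1)) * v (.inl (.inr 1)) +
    (v (.inr 0) * v (.inr 0) + v (.inr 0) * v (.inr 1) + v (.inr 1) * v (.inr 1))

/-- The polar form. -/
def bl (u v : V) : ZMod 2 :=
  u (.inl (.inl 0)) * v (.inl (.inr 0)) + u (.inl (.inr 0)) * v (.inl (.inl 0)) +
    (u (.inl (.inl 1)) * v (.inl (.inr 1)) + u (.inl (.inr 1)) * v (.inl (.inl 1))) +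
    (u (.inr 0) * v (.inr 1) + u (.inr 1) * v (.inr 0))

/-- A reflection as a function. -/
def rf (a x : V) : V := fun i => x i + bl x a * a i

/-- A Siegel map as a function. -/
def sgf (v w x : V) : V := fun i => x i + bl x v * w i + (bl x w + q w * bl x v) * v i

/-- A product of two reflections as a function. -/
def pf (p : V × V) (x : V) : V := rf p.1 (rf p.2 x)

/-- First vector of the first hyperbolic pair. -/
def eV : V := vec 1 0 0 0 0 0
/-- Second vector of the first hyperbolic pair. -/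
def fV : V := vec 0 0 1 0 0 0
/-- First vector of the second hyperbolic pair. -/
def e2V : V := vec 0 1 0 0 0 0
/-- Second vector of the second hyperbolic pair. -/
def f2V : V := vec 0 0 0 1 0 0
/-- First vector of the anisotropic plane. -/
def z1V : V := vec 0 0 0 0 1 0
/-- Second vector of the anisotropic plane. -/
def z2V : V := vec 0 0 0 0 0 1

/-- The representative modulo `eV` with vanishing first coordinate. -/
def md (v : V) : V :=
  vec 0 (v (.inl (.inl 1))) (v (.inl (.inr 0))) (v (.inl (.inr 1))) (v (.inr 0)) (v (.inr 1))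

/-- Representatives of `eV`-orthogonal vectors modulo `eV`. -/
def Mid (v : V) : Prop := v (.inl (.inl 0)) = 0 ∧ v (.inl (.inr 0)) = 0

instance : DecidablePred Mid := fun v => by unfold Mid; infer_instance

theorem forall_mid {P : V → Prop} :
    (∀ v, Mid v → P v) ↔ ∀ b d g h : ZMod 2, P (vec 0 b 0 d g h) := by
  refine ⟨fun H _ _ _ _ => H _ ⟨rfl, rfl⟩, fun H v hv => ?_⟩
  rw [eq_vec v, hv.1, hv.2]
  exact H _ _ _ _

/-- Pairs of nonsingular vectors whose reflection products move `eV` to every singular vector. -/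
def transPairs : List (V × V) :=
  [(vec 0 1 1 0 0 1, vec 1 1 1 1 0 1),
   (vec 1 1 0 0 0 1, vec 0 1 1 0 0 1),
   (vec 0 0 1 1 1 0, vec 1 0 1 1 0 0),
   (vec 0 0 1 1 0 1, vec 1 1 1 1 0 1),
   (vec 0 0 1 0 1 1, vec 1 1 1 1 1 0),
   (vec 0 0 1 0 1 1, vec 1 1 1 1 0 1),
   (vec 0 1 1 0 1 1, vec 1 0 1 1 0 0),
   (vec 1 0 0 1 1 0, vec 1 1 1 0 0 0),
   (vec 0 1 1 0 1 0, vec 1 1 1 1 0 1),
   (vec 1 0 0 1 1 0, vec 1 1 1 1 1 0),
   (vec 1 1 1 1 1 1, vec 1 0 0 0 0 1),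
   (vec 0 0 0 0 0 1, vec 0 0 0 0 0 1),
   (vec 0 0 1 0 0 1, vec 0 0 1 1 0 1),
   (vec 0 0 1 0 1 0, vec 0 0 1 0 0 1),
   (vec 0 0 1 0 1 0, vec 0 0 0 1 1 0),
   (vec 0 1 0 0 1 1, vec 0 0 1 0 1 1),
   (vec 0 1 0 0 1 1, vec 0 0 1 1 0 1),
   (vec 0 0 1 1 1 0, vec 1 0 0 1 1 0),
   (vec 0 0 1 0 1 0, vec 0 0 1 1 1 1),
   (vec 0 1 1 0 0 1, vec 0 0 1 0 0 1),
   (vec 1 0 1 0 0 0, vec 1 1 1 1 0 1),
   (vec 1 1 1 1 1 0, vec 1 0 1 0 0 0),
   (vec 1 1 1 1 1 1, vec 1 0 1 0 0 0),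
   (vec 1 0 0 1 1 0, vec 1 1 1 1 1 1),
   (vec 0 1 1 0 1 0, vec 1 1 0 0 0 1),
   (vec 1 0 0 1 1 0, vec 1 1 1 1 0 1),
   (vec 0 1 0 0 1 1, vec 0 0 1 1 1 1)]

/-- Pairs of nonsingular vectors orthogonal to `eV`. -/
def stabPairs : List (V × V) :=
  [(vec 0 0 0 0 1 0, vec 0 1 0 0 1 0),
   (vec 0 0 0 0 0 1, vec 0 0 0 1 0 1),
   (vec 1 0 0 0 1 1, vec 1 1 0 1 0 0),
   (vec 1 0 0 1 1 0, vec 0 1 0 0 1 1),
   (vec 1 1 0 0 0 1, vec 0 0 0 1 1 1),
   (vec 1 1 0 1 0 0, vec 0 0 0 1 1 0),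
   (vec 0 0 0 0 0 1, vec 0 0 0 0 1 0),
   (vec 1 0 0 1 0 1, vec 0 1 0 0 1 1),
   (vec 0 1 0 0 1 0, vec 0 0 0 1 1 1),
   (vec 1 1 0 0 0 1, vec 0 0 0 0 0 1),
   (vec 0 1 0 0 0 1, vec 1 0 0 0 1 0),
   (vec 1 1 0 1 0 0, vec 0 0 0 1 1 1),
   (vec 0 0 0 0 0 1, vec 0 0 0 0 0 1),
   (vec 1 1 0 1 0 0, vec 0 1 0 0 0 1)]

theorem transPairs_ok : ∀ p ∈ transPairs, q p.1 = 1 ∧ q p.2 = 1 := by decide +kernel

theorem stabPairs_ok : ∀ p ∈ stabPairs, q p.1 = 1 ∧ q p.2 = 1 ∧ pf p eV = eV := by decide +kernel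

theorem singular_mem : ∀ v : V, q v = 0 → v ≠ 0 → ∃ p ∈ transPairs, pf p eV = v := by
  rw [forall_vec]; decide +kernel

theorem singular_moved : ∀ v : V, Mid v → v ≠ 0 → q v = 0 → ∃ p ∈ stabPairs, bl v (pf p v) = 1 := by
  rw [forall_mid]; decide +kernel

theorem orbit_nonsing : ∀ v : V, Mid v → q v = 1 → ∃ p ∈ stabPairs, md (pf p z1V) = v := by
  rw [forall_mid]; decide +kernel

theorem orbit_sing : ∀ v : V, Mid v → v ≠ 0 → q v = 0 → ∃ p ∈ stabPairs, md (pf p e2V) = v := by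
  rw [forall_mid]; decide +kernel

theorem not_fixed : ∀ w : V, Mid w → ∀ a : V, Mid a → a ≠ 0 → a ≠ w →
    ∃ p ∈ stabPairs, md (pf p w) = w ∧ md (pf p a) ≠ a := by
  rw [forall_mid]; intro b d g h; rw [forall_mid]; revert b d g h; decide +kernel

theorem plane_class : ∀ u : V, Mid u → bl u z1V = 1 → q u = 1 →
    ∃ p ∈ stabPairs, md (pf p z1V) = z1V ∧ (md (pf p u) = z2V ∨ md (pf p u) = md (fun i => z2V i + z1V i)) := by
  rw [forall_mid]; decide +kernel

theorem singular_perp : ∀ u : V, Mid u → bl u e2V = 0 → q u = 0 → u = 0 ∨ u = e2V := by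
  rw [forall_mid]; decide +kernel

theorem singular_plane_perp : ∀ u : V, Mid u → bl u z1V = 0 → bl u z2V = 0 → q u = 0 →
    u = 0 ∨ u = e2V ∨ u = f2V := by
  rw [forall_mid]; decide +kernel

theorem image_singular : ∀ x : V, q (fun i => sgf eV z1V x i + x i) = 0 →
    (fun i => sgf eV z1V x i + x i) = 0 ∨ (fun i => sgf eV z1V x i + x i) = eV := by
  rw [forall_vec]; decide +kernel

/-- The four possible values of the second Siegel parameter. -/
def planeVecs : List V := [0, z1V, z2V, vec 0 0 0 0 1 1]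

/-- Candidates for rewriting a product of Siegel maps as one Siegel map. -/
def sgCands (w a : V) : List (V × V) :=
  [(eV, w), (e2V, a), (e2V, fun i => eV i + a i),
   (fun i => eV i + e2V i, fun i => w i + e2V i)]

/-- The basis. -/
def basisList : List V := [eV, fV, e2V, f2V, z1V, z2V]

theorem involution_cand : ∀ w : V, Mid w → ∀ a ∈ planeVecs,
    (∀ x ∈ basisList, sgf eV w (sgf e2V a (sgf eV w (sgf e2V a x))) = x) →
    ∃ p ∈ sgCands w a, q p.1 = 0 ∧ bl p.1 p.2 = 0 ∧ p.1 ≠ 0 ∧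
      ∀ x ∈ basisList, sgf eV w (sgf e2V a x) = sgf p.1 p.2 x := by
  rw [forall_mid]; decide +kernel

end CfsgLib.SuzukiType
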