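import Cfsg.Agent.Lib.SuzukiType.SecondFour
import Cfsg.Agent.Lib.SuzukiType.FiveLift
import Cfsg.Agent.Lib.InvChar.HallJankoSylow.Small
import Cfsg.Agent.S3035

/-!
The centraliser of an element of order five of `C(z)`: modulo that element it is the alternating
group of degree six.
-/

set_option autoImplicit false
set_option linter.unusedSectionVars false
set_option linter.style.haveILetI false
set_option maxRecDepth 100000
set_option synthInstance.maxSize 2000

namespace CfsgLib.SuzukiType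

open Cfsg CfsgLib.CIT CentTools
open CfsgLib.InvChar.HJSylow (cent mem_cent self_mem_cent)

universe u₀

variable {G : Type u₀} [Group G] [Finite G]
variable {z : G} {Qf : G → Subgroup G} {θ : G → V} {ρ : G → O} {J : Subgroup O}
variable {y h t u k n x : G}

theorem center_vals : ∀ v : V, (v = 0 ∨ v = eV ∨ v = fV ∨ v = eV + fV) → bl v eV = 0 →
    bl v fV = 0 → v = 0 := by
  rintro v (rfl | rfl | rfl | rfl) <;> decide +kernel

theorem ef_vals : g5F eV = eV ∧ g5F fV = fV ∧ q fV = 0 ∧ eV ≠ 0 ∧ fV ≠ 0 ∧ eV ≠ fV := by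
  decide +kernel

namespace Second

variable (S : Second z Qf θ ρ J y h t u k n x)
include S

variable {p γ : G} (D : FiveData z ρ p γ)
include D

/-- An element normalising the subgroup generated by `p` and moving an involution of `Qf z`
centralising `p` to `z`. -/
theorem exists_mover {i : G} (hi : i ∈ Qf z) (hip : i * p = p * i) (h2 : i * i = 1) (h1 : i ≠ 1) :
    ∃ m, m * i * m⁻¹ = z ∧ (∀ a, (a * p = p * a ↔ (m * a * m⁻¹) * p = p * (m * a * m⁻¹))) ∧
      ∀ a, m * a * m⁻¹ ∈ Subgroup.zpowers p → a ∈ Subgroup.zpowers p := by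
  haveI : Fact (Nat.Prime 5) := ⟨Nat.prime_five⟩
  obtain ⟨g, hg⟩ := isConj_iff.1 (S.isConj_of_Qz hi h2 h1)
  have hg' : g⁻¹ * p * g * z = z * (g⁻¹ * p * g) :=
    PairSetting.conj_comm (g := g⁻¹) (a := p) (b := i) (by group) (by rw [← hg]; group) hip.symm
  obtain ⟨d, hd, hdc⟩ := conj_of_not_sq_dvd (p := 5) (K := Subgroup.centralizer ({z} : Set G))
    (A := Subgroup.zpowers (g⁻¹ * p * g)) (B := Subgroup.zpowers p)
    (Subgroup.zpowers_le.2 (Subgroup.mem_centralizer_singleton_iff.2 hg'))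
    (Subgroup.zpowers_le.2 (Subgroup.mem_centralizer_singleton_iff.2 D.pz))
    (by
      rw [Nat.card_zpowers, show g⁻¹ * p * g = g⁻¹ * p * g⁻¹⁻¹ by rw [inv_inv],
        InvChar.HJSylow.orderOf_conj', S.toSetting.five_order D])
    (S.toSetting.five_card D) (S.toSetting.not_25 le_rfl)
  have hdz : d * z * d⁻¹ = z := conj_fix_iff.2 (Subgroup.mem_centralizer_singleton_iff.1 hd)
  set m := d * g⁻¹ with hm
  have hmp : m * p * m⁻¹ ∈ Subgroup.zpowers p := by
    have := hdc _ (Subgroup.mem_zpowers _)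
    rwa [show d * (g⁻¹ * p * g) * d⁻¹ = d * g⁻¹ * p * (d * g⁻¹)⁻¹ by group] at this
  have hne : m * p * m⁻¹ ≠ 1 := fun e => by
    have h5 := S.toSetting.five_order D
    rw [mul_inv_eq_one, mul_eq_left] at e
    rw [e, orderOf_one] at h5
    omega
  have hz := InvChar.HJSylow.zpowers_eq_of_card Nat.prime_five (S.toSetting.five_card D) hmp hne
  refine ⟨m, ?_, fun a => ⟨fun hap => ?_, fun hap => ?_⟩, fun a ha => ?_⟩
  · rw [hm, show d * g⁻¹ * i * (d * g⁻¹)⁻¹ = d * (g⁻¹ * i * g) * d⁻¹ by group,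
      show g⁻¹ * i * g = z by rw [← hg]; group, hdz]
  · have hc : Commute (m * a * m⁻¹) (m * p * m⁻¹) := PairSetting.conj_comm rfl rfl hap
    obtain ⟨j, hj⟩ := (hz ▸ Subgroup.mem_zpowers p : p ∈ Subgroup.zpowers (m * p * m⁻¹))
    have := hc.zpow_right j
    simp only at hj
    rw [hj] at this
    exact this.eq
  · obtain ⟨j, hj⟩ := hmp
    simp only at hj
    have hc : (m * a * m⁻¹) * (m * p * m⁻¹) = m * p * m⁻¹ * (m * a * m⁻¹) := by
      rw [← hj]; exact ((show Commute (m * a * m⁻¹) p from hap).zpow_right j).eq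
    exact PairSetting.conj_comm (g := m⁻¹) (by group) (by group) hc
  · rw [← hz] at ha
    obtain ⟨j, hj⟩ := ha
    simp only [conj_zpow] at hj
    exact ⟨j, mul_left_cancel (mul_right_cancel hj)⟩

/-- The quotient of the centraliser of `p` is the alternating group of degree six. -/
theorem five_quot : ∃ φ : Subgroup.centralizer ({p} : Set G) →* alternatingGroup (Fin 6),
    Function.Surjective φ ∧ ∀ c, φ c = 1 ↔ (c : G) ∈ Subgroup.zpowers p := by
  classical
  haveI : Fact (Nat.Prime 5) := ⟨Nat.prime_five⟩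
  haveI : Fact (Nat.Prime 2) := ⟨Nat.prime_two⟩
  set X := Subgroup.centralizer ({p} : Set G) with hX
  have hXm : ∀ c : X, (c : G) * p = p * c := fun c => Subgroup.mem_centralizer_singleton_iff.1 c.2
  haveI hn : ((Subgroup.zpowers p).subgroupOf X).Normal := ⟨fun b hb g => by
    rw [Subgroup.mem_subgroupOf] at hb ⊢
    obtain ⟨j, hj⟩ := hb
    refine ⟨j, ?_⟩
    simp only at hj ⊢
    rw [Subgroup.coe_mul, Subgroup.coe_mul, Subgroup.coe_inv, ← hj,
      ((show Commute (g : G) p from hXm g).zpow_right j).mul_inv_cancel]⟩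
  set N := (Subgroup.zpowers p).subgroupOf X with hNdef
  have hN : Nat.card N = 5 := by
    rw [Nat.card_congr (Subgroup.subgroupOfEquivOfLe
      (Subgroup.zpowers_le.2 (Subgroup.mem_centralizer_singleton_iff.2 rfl))).toEquiv,
      S.toSetting.five_card D]
  let π := QuotientGroup.mk' N
  have hπ : ∀ {c : X}, π c = 1 ↔ (c : G) ∈ Subgroup.zpowers p := fun {c} =>
    (QuotientGroup.eq_one_iff c).trans Subgroup.mem_subgroupOf
  have hP5 : ∀ a ∈ Subgroup.zpowers p, a ^ 5 = 1 := fun a ha =>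
    orderOf_dvd_iff_pow_eq_one.1 (S.toSetting.five_card D ▸ Subgroup.orderOf_dvd_natCard _ ha)
  have h45 : ∀ a : G, a ^ 4 = 1 → a ^ 5 = 1 → a = 1 := fun a h4 h5 => by
    rw [pow_succ, h4, one_mul] at h5; exact h5
  -- lifting commutation with an involution
  have hlift : ∀ e : X, (e : G) * e = 1 → ∀ a : X, π a * π e = π e * π a → (a : G) * e = e * a := by
    intro e he a hae
    have h1 : π (a * e * a⁻¹ * e⁻¹) = 1 := by
      rw [map_mul, map_mul, map_mul, map_inv, map_inv, hae]; group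
    have h2 := hπ.1 h1
    simp only [Subgroup.coe_mul, Subgroup.coe_inv] at h2
    set b := (a : G) * e * (a : G)⁻¹ * (e : G)⁻¹
    have hb : b * e = e * b := by
      obtain ⟨j, hj⟩ := h2
      simp only at hj
      rw [← hj]
      exact ((show Commute (e : G) p from hXm e).zpow_right j).eq.symm
    have hae' : (a : G) * e * (a : G)⁻¹ = b * e := by simp [b]
    have hbb : b * b = 1 := by
      have h3 : b * (e : G) * (b * (e : G)) = 1 := by
        rw [← hae', show (a : G) * e * (a : G)⁻¹ * ((a : G) * e * (a : G)⁻¹) =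
          (a : G) * (e * e) * (a : G)⁻¹ by group, he]
        group
      rwa [mul_assoc, ← mul_assoc (e : G), ← hb, mul_assoc b, he, mul_one] at h3
    have hb1 : b = 1 := h45 b (by
      rw [show b ^ 4 = (b * b) * (b * b) by simp only [pow_succ, pow_zero, one_mul, mul_assoc], hbb,
        one_mul]) (hP5 b h2)
    rw [hb1, one_mul] at hae'
    exact mul_inv_eq_iff_eq_mul.1 hae'
  -- the fixed points in `Qf z`
  set Dz := (Qf z ⊓ X).subgroupOf X with hDz
  have hinj : ∀ a ∈ Dz, π a = 1 → a = 1 := fun a ha h1 =>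
    Subtype.ext (h45 _ (S.toSetting.Qf_pow_four ha.1) (hP5 _ (hπ.1 h1)))
  have hinj2 : ∀ a ∈ Dz, ∀ b ∈ Dz, π a = π b → a = b := fun a ha b hb e =>
    mul_inv_eq_one.1 (hinj _ (mul_mem ha (inv_mem hb)) (by rw [map_mul, map_inv, e, mul_inv_cancel]))
  have hD8 : Nat.card Dz = 8 := by
    rw [Nat.card_congr (Subgroup.subgroupOfEquivOfLe inf_le_right).toEquiv,
      S.toSetting.five_fixed_card D]
  let z' : X := ⟨z, Subgroup.mem_centralizer_singleton_iff.2 D.pz.symm⟩
  have hzD : z' ∈ Dz := ⟨S.toSetting.z_mem, z'.2⟩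
  have hz2 : (z' : G) * z' = 1 := S.toSetting.z_sq
  have hzne : π z' ≠ 1 := fun e => S.toSetting.z_ne (congrArg Subtype.val (hinj _ hzD e))
  have hzo : orderOf (π z') = 2 := orderOf_eq_prime
    (by rw [← map_pow, show z' ^ 2 = 1 from Subtype.ext (by rw [Subgroup.coe_pow, pow_two]; exact hz2),
      map_one]) hzne
  have hC : cent (π z') = Dz.map π := by
    ext c
    constructor
    · intro hc
      obtain ⟨a, rfl⟩ : ∃ a, π a = c := QuotientGroup.mk'_surjective N c
      obtain ⟨j, q, hq, hqp, e⟩ := S.toSetting.five_split D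
        (hlift z' hz2 a (mem_cent.1 hc)) (hXm a)
      refine ⟨⟨q, Subgroup.mem_centralizer_singleton_iff.2 hqp⟩,
        ⟨hq, Subgroup.mem_centralizer_singleton_iff.2 hqp⟩, ?_⟩
      symm
      rw [← mul_inv_eq_one, ← map_inv, ← map_mul, hπ, Subgroup.coe_mul, Subgroup.coe_inv, e,
        mul_inv_cancel_right]
      exact pow_mem (Subgroup.mem_zpowers p) j
    · rintro ⟨a, ha, rfl⟩
      refine mem_cent.2 ?_
      rw [← map_mul, ← map_mul, show a * z' = z' * a from Subtype.ext (S.toSetting.comm_z ha.1)]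
  have hC8 : Nat.card (cent (π z')) = 8 := by
    rw [hC, ← hD8]
    refine Nat.card_congr (Equiv.ofBijective
      (fun a : Dz => (⟨π a, ⟨a, a.2, rfl⟩⟩ : Dz.map π)) ⟨fun a b e => Subtype.ext
        (hinj2 _ a.2 _ b.2 (congrArg Subtype.val e)), fun c => ?_⟩).symm
    obtain ⟨a, ha, e⟩ := c.2
    exact ⟨⟨a, ha⟩, Subtype.ext e⟩
  have hCmem : ∀ c ∈ cent (π z'), ∃ a ∈ Dz, π a = c := fun c hc => by
    rw [hC] at hc; exact hc
  have hcen : ∀ c ∈ cent (π z'), c ≠ 1 → (∀ d ∈ cent (π z'), c * d = d * c) → c = π z' := by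
    intro c hc hc1 hcomm
    obtain ⟨a, ha, rfl⟩ := hCmem c hc
    have hca : ∀ d ∈ Dz, (a : G) * d = d * a := fun d hd => by
      have h1 := hcomm (π d) (hC ▸ ⟨d, hd, rfl⟩)
      rw [← map_mul, ← map_mul] at h1
      exact congrArg Subtype.val (hinj2 _ (mul_mem ha hd) _ (mul_mem hd ha) h1)
    have hb : ∀ v : V, g5F v = v → bl (θ (a : G)) v = 0 := fun v hv => by
      obtain ⟨b, hb, rfl⟩ := S.toSetting.θ_surj v
      refine S.toSetting.bl_of_comm ha.1 hb (hca ⟨b, ?_⟩ ⟨hb, ?_⟩) <;>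
        exact Subgroup.mem_centralizer_singleton_iff.2 ((S.toSetting.five_fix D hb).2 hv)
    have h0 := center_vals _ (S.toSetting.five_fix_cases D ha.1 (hXm a)) (hb eV ef_vals.1)
      (hb fV ef_vals.2.1)
    rcases (S.toSetting.θ_ker _ ha.1).1 h0 with e | e
    · exact absurd (by rw [show a = 1 from Subtype.ext e, map_one]) hc1
    · exact congrArg π (Subtype.ext e)
  have hC2 : IsPGroup 2 (cent (π z')) := IsPGroup.of_card (n := 3) (by rw [hC8]; rfl)
  obtain ⟨T, hT⟩ := hC2.exists_le_sylow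
  have hTC : (T : Subgroup (X ⧸ N)) = cent (π z') := by
    refine le_antisymm (fun a ha => ?_) hT
    obtain ⟨c, hcT, hc2, hcc⟩ := InvChar.HJSylow.exists_central_involution T.2
      (fun e => hzne (by have := hT (self_mem_cent (π z')); rwa [e, Subgroup.mem_bot] at this))
    have hc1 : c ≠ 1 := fun e => by rw [e, orderOf_one] at hc2; omega
    have hcz : c ∈ cent (π z') := mem_cent.2 (hcc _ (hT (self_mem_cent _)))
    have hceq := hcen c hcz hc1 fun d hd => hcc d (hT hd)
    exact mem_cent.2 (hceq ▸ (hcc a ha).symm)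
  -- the involutions of `Qf z` centralising `p`
  have hQi : ∀ e ∈ Dz, e * e = 1 → e ≠ 1 → IsConj (π z') (π e) := by
    intro e he he2 he1
    have he2' : (e : G) * e = 1 := congrArg Subtype.val he2
    obtain ⟨m, hm, hmX, hmP⟩ := S.exists_mover D (i := (e : G)) he.1 (hXm e) he2'
      (fun h => he1 (Subtype.ext h))
    have h2 : IsPGroup 2 (cent (π e)) := by
      intro c
      obtain ⟨a, ha⟩ : ∃ a, π a = (c : X ⧸ N) := QuotientGroup.mk'_surjective N c
      have hae := hlift e he2' a (by rw [ha]; exact mem_cent.1 c.2)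
      have hmz : (m * a * m⁻¹) * z = z * (m * a * m⁻¹) := PairSetting.conj_comm rfl hm hae
      obtain ⟨j, q, hq, hqp, e1⟩ := S.toSetting.five_split D hmz ((hmX a).1 (hXm a))
      refine ⟨2, Subtype.ext ?_⟩
      rw [Subgroup.coe_pow, ← ha, ← map_pow, Subgroup.coe_one, hπ, Subgroup.coe_pow]
      have h4 : (m * (a : G) * m⁻¹) ^ 4 = (p ^ j) ^ 4 := by
        rw [e1, ((show Commute q p from hqp).pow_right j).symm.mul_pow,
          S.toSetting.Qf_pow_four hq, mul_one]
      rw [conj_pow] at h4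
      exact hmP _ (h4 ▸ pow_mem (pow_mem (Subgroup.mem_zpowers p) j) 4)
    -- the image of the conjugate of the fixed points
    have hDX : ∀ d : Dz, m⁻¹ * ((d : X) : G) * m ∈ X := fun d => by
      refine Subgroup.mem_centralizer_singleton_iff.2 ((hmX _).2 ?_)
      rw [show m * (m⁻¹ * ((d : X) : G) * m) * m⁻¹ = ((d : X) : G) by group]
      exact hXm d
    have hcomm : ∀ d : Dz, π ⟨_, hDX d⟩ ∈ cent (π e) := fun d => by
      refine mem_cent.2 ?_
      rw [← map_mul, ← map_mul]
      refine congrArg π (Subtype.ext ?_)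
      show m⁻¹ * ((d : X) : G) * m * e = e * (m⁻¹ * ((d : X) : G) * m)
      exact PairSetting.conj_comm (g := m⁻¹) (by rw [inv_inv]) (by rw [← hm]; group)
        (S.toSetting.comm_z (x := ((d : X) : G)) d.2.1)
    have h8 : 8 ≤ Nat.card (cent (π e)) := by
      rw [← hD8]
      refine Nat.card_le_card_of_injective (fun d : Dz => (⟨_, hcomm d⟩ : cent (π e))) fun a b hab => ?_
      have h1 : π ⟨_, hDX a⟩ = π ⟨_, hDX b⟩ := congrArg Subtype.val hab
      rw [← mul_inv_eq_one, ← map_inv, ← map_mul, hπ] at h1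
      simp only [Subgroup.coe_mul, Subgroup.coe_inv] at h1
      have h2 : ((a : X) : G) * ((b : X) : G)⁻¹ ∈ Qf z := mul_mem a.2.1 (inv_mem b.2.1)
      have h3 : (m⁻¹ * ((a : X) : G) * m * (m⁻¹ * ((b : X) : G) * m)⁻¹) ^ 4 = 1 := by
        rw [show m⁻¹ * ((a : X) : G) * m * (m⁻¹ * ((b : X) : G) * m)⁻¹ =
          m⁻¹ * (((a : X) : G) * ((b : X) : G)⁻¹) * m⁻¹⁻¹ by group, conj_pow,
          S.toSetting.Qf_pow_four h2]
        group
      have h4 := h45 _ h3 (hP5 _ h1)
      rw [mul_inv_eq_one] at h4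
      exact Subtype.ext (Subtype.ext (mul_left_cancel (mul_right_cancel h4)))
    obtain ⟨T', hT'⟩ := h2.exists_le_sylow
    obtain ⟨g, hg⟩ := MulAction.exists_smul_eq (X ⧸ N) T' T
    have hgC : ∀ c ∈ cent (π e), g * c * g⁻¹ ∈ cent (π z') := fun c hc => by
      rw [← hTC, ← hg]
      exact Subgroup.smul_mem_pointwise_smul _ (MulAut.conj g) _ (hT' hc)
    have heq : (cent (π e)).map (MulAut.conj g).toMonoidHom = cent (π z') :=
      Subgroup.eq_of_le_of_card_ge (by rintro _ ⟨c, hc, rfl⟩; exact hgC c hc) (by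
        rw [Subgroup.card_map_of_injective (MulAut.conj g).injective, hC8]; exact h8)
    refine (isConj_iff.2 ⟨g, hcen _ (hgC _ (self_mem_cent _)) (fun h => ?_) fun d hd => ?_⟩).symm
    · rw [mul_inv_eq_one, mul_eq_left] at h
      exact he1 (hinj _ he h)
    · rw [← heq] at hd
      obtain ⟨c, hc, rfl⟩ := hd
      exact PairSetting.conj_comm (g := g) rfl rfl (mem_cent.1 hc).symm
  -- all involutions are conjugate
  have hall : ∀ c : X ⧸ N, orderOf c = 2 → IsConj (π z') c := by
    intro c hc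
    obtain ⟨T', hT'⟩ := (IsPGroup.of_card (n := 1) (by rw [Nat.card_zpowers, hc]; rfl) :
      IsPGroup 2 (Subgroup.zpowers c)).exists_le_sylow
    obtain ⟨g, hg⟩ := MulAction.exists_smul_eq (X ⧸ N) T' T
    have hm : g * c * g⁻¹ ∈ cent (π z') := by
      rw [← hTC, ← hg]
      exact Subgroup.smul_mem_pointwise_smul _ (MulAut.conj g) _ (hT' (Subgroup.mem_zpowers c))
    obtain ⟨a, ha, hac⟩ := hCmem _ hm
    have ho : orderOf (π a) = 2 := by rw [hac, InvChar.HJSylow.orderOf_conj', hc]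
    have ha2 : a * a = 1 := hinj _ (mul_mem ha ha) (by
      rw [map_mul, ← pow_two, ← ho, pow_orderOf_eq_one])
    have ha1 : a ≠ 1 := fun e => by rw [e, map_one, orderOf_one] at ho; omega
    exact (hac ▸ hQi a ha ha2 ha1).trans (isConj_iff.2 ⟨g, rfl⟩).symm
  -- the Sylow subgroup is dihedral
  have hlifts : ∀ v : V, g5F v = v → q v = 0 → v ≠ 0 → ∃ e ∈ Dz, θ (e : G) = v ∧
      orderOf (π e) = 2 ∧ π e ∈ cent (π z') := by
    intro v hv hqv hv0
    obtain ⟨b, hb, rfl⟩ := S.toSetting.θ_surj v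
    have hbX : b ∈ X :=
      Subgroup.mem_centralizer_singleton_iff.2 ((S.toSetting.five_fix D hb).2 hv)
    have he : (⟨b, hbX⟩ : X) ∈ Dz := ⟨hb, hbX⟩
    have hb2 : (⟨b, hbX⟩ : X) * ⟨b, hbX⟩ = 1 :=
      Subtype.ext ((S.toSetting.θ_sq b hb).2 hqv)
    refine ⟨_, he, rfl, orderOf_eq_prime (by rw [pow_two, ← map_mul, hb2, map_one]) fun e => ?_,
      hC ▸ ⟨_, he, rfl⟩⟩
    exact hv0 (by
      rw [show b = 1 from congrArg Subtype.val (hinj _ he e), S.toSetting.θ_one])
  obtain ⟨e, heD, hθe, hoe, hec⟩ := hlifts eV ef_vals.1 q_eV ef_vals.2.2.2.1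
  obtain ⟨f, hfD, hθf, hof, hfc⟩ := hlifts fV ef_vals.2.1 ef_vals.2.2.1 ef_vals.2.2.2.2.1
  have hd : Nonempty (cent (π z') ≃* DihedralGroup 4) := by
    have hne : (⟨π e, hec⟩ : cent (π z')) ≠ ⟨π f, hfc⟩ := fun h => ef_vals.2.2.2.2.2 (by
      rw [← hθe, ← hθf, hinj2 _ heD _ hfD (congrArg Subtype.val h)])
    refine InvChar.HJSylow.dihedral_of_two_involutions hC8 (fun hc => ?_)
      (a := ⟨π e, hec⟩) (b := ⟨π f, hfc⟩) ?_ ?_ ?_ ?_ hne
    · have h1 : π (e * f) = π (f * e) := by
        rw [map_mul, map_mul]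
        exact congrArg Subtype.val (hc.is_comm.comm ⟨π e, hec⟩ ⟨π f, hfc⟩)
      have h2 := S.toSetting.bl_of_comm (x := (e : G)) (y := (f : G)) heD.1 hfD.1
        (congrArg Subtype.val (hinj2 _ (mul_mem heD hfD) _ (mul_mem hfD heD) h1))
      rw [hθe, hθf, bl_e_f] at h2
      exact one_ne_zero h2
    · exact Subtype.ext (by
        show π e * π e = 1
        rw [← pow_two, ← hoe, pow_orderOf_eq_one])
    · exact Subtype.ext (by
        show π f * π f = 1
        rw [← pow_two, ← hof, pow_orderOf_eq_one])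
    · exact fun h => by rw [show π e = 1 from congrArg Subtype.val h, orderOf_one] at hoe; omega
    · exact fun h => by rw [show π f = 1 from congrArg Subtype.val h, orderOf_one] at hof; omega
  have hconj : ∀ a b : X ⧸ N, orderOf a = 2 → orderOf b = 2 → IsConj a b := fun a b ha hb =>
    (hall a ha).symm.trans (hall b hb)
  -- the order is divisible by twenty five
  have h25 : 5 ∣ Nat.card (X ⧸ N) := by
    have hdvd : 5 * 5 ∣ Nat.card X := by
      have hcz : Subgroup.centralizer (Subgroup.zpowers p : Set G) = X := by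
        rw [hX, Subgroup.zpowers_eq_closure, Subgroup.centralizer_closure]
      obtain ⟨P, hP⟩ := (IsPGroup.of_card (n := 1) (by rw [S.toSetting.five_card D, pow_one]) :
        IsPGroup 5 (Subgroup.zpowers p)).exists_le_sylow
      rw [← hcz]
      refine sq_dvd_cent (S.toSetting.five_card D) P hP fun hPc => ?_
      obtain ⟨A, hAN, hA⟩ := S.exists_order (Or.inl rfl)
      obtain ⟨P', hP'⟩ := (IsPGroup.of_card (n := 1) (by rw [hA, pow_one]) :
        IsPGroup 5 A).exists_le_sylow
      obtain ⟨g, hg⟩ := MulAction.exists_smul_eq G P' P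
      have hPp : Subgroup.zpowers p = (P : Subgroup G) :=
        Subgroup.eq_of_le_of_card_ge hP (by rw [hPc, S.toSetting.five_card D])
      obtain ⟨a, ha, ha1⟩ := A.bot_or_exists_ne_one.resolve_left fun hb => by
        rw [hb, Subgroup.card_bot] at hA; omega
      have hga : g * a * g⁻¹ ∈ Subgroup.zpowers p := by
        rw [hPp, ← hg]
        exact Subgroup.smul_mem_pointwise_smul a (MulAut.conj g) _ (hP' ha)
      have hz' := InvChar.HJSylow.zpowers_eq_of_card Nat.prime_five (S.toSetting.five_card D) hga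
        (fun h => ha1 (by rwa [mul_inv_eq_one, mul_eq_left] at h))
      set i := g * t * g⁻¹ with hi
      have hip : i ∈ X := Subgroup.mem_centralizer_singleton_iff.2 (by
        obtain ⟨j, hj⟩ := (hz' ▸ Subgroup.mem_zpowers p : p ∈ Subgroup.zpowers (g * a * g⁻¹))
        simp only at hj
        rw [← hj]
        exact ((show Commute i (g * a * g⁻¹) from
          PairSetting.conj_comm rfl rfl (mem_HT.1 (S.NT_le (hAN ha))).symm).zpow_right j).eq)
      have hi2 : i * i = 1 := by
        rw [hi, show g * t * g⁻¹ * (g * t * g⁻¹) = g * (t * t) * g⁻¹ by group, S.t_sq]; group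
      have hi1 : i ≠ 1 := fun h => S.t_ne (by rwa [hi, mul_inv_eq_one, mul_eq_left] at h)
      have hio : orderOf (π ⟨i, hip⟩) = 2 := orderOf_eq_prime
        (by rw [← map_pow, show (⟨i, hip⟩ : X) ^ 2 = 1 from
          Subtype.ext (by rw [Subgroup.coe_pow, pow_two]; exact hi2), map_one])
        fun h => hi1 (h45 i (by
          rw [show i ^ 4 = (i * i) * (i * i) by simp only [pow_succ, pow_zero, one_mul, mul_assoc],
            hi2, one_mul]) (hP5 i (hπ.1 h)))
      obtain ⟨c, hc⟩ := isConj_iff.1 (hall _ hio)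
      obtain ⟨c, rfl⟩ : ∃ b, π b = c := QuotientGroup.mk'_surjective N c
      have h1 : π (c * z' * c⁻¹ * (⟨i, hip⟩ : X)⁻¹) = 1 := by
        rw [map_mul, map_mul, map_mul, map_inv, map_inv, hc, mul_inv_cancel]
      have h2 := hπ.1 h1
      simp only [Subgroup.coe_mul, Subgroup.coe_inv] at h2
      have h3 : Commute ((c : G) * z * (c : G)⁻¹) i := by
        have h4 : π (c * z' * c⁻¹) * π ⟨i, hip⟩ = π ⟨i, hip⟩ * π (c * z' * c⁻¹) := by
          rw [map_mul, map_mul, map_inv, hc]
        exact hlift ⟨i, hip⟩ hi2 (c * z' * c⁻¹) h4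
      have h5 := h45 _ (by
        rw [show i⁻¹ = i from inv_eq_of_mul_eq_one_right hi2, h3.mul_pow, conj_pow,
          show z ^ 4 = (z * z) * (z * z) by simp only [pow_succ, pow_zero, one_mul, mul_assoc],
          S.toSetting.z_sq,
          show i ^ 4 = (i * i) * (i * i) by simp only [pow_succ, pow_zero, one_mul, mul_assoc], hi2]
        group) (hP5 _ h2)
      exact S.not_z_t ((isConj_iff.2 ⟨c, mul_inv_eq_one.1 h5⟩ : IsConj z i).trans
        (isConj_iff.2 ⟨g, rfl⟩).symm)
    rw [Subgroup.card_eq_card_quotient_mul_card_subgroup N, hN] at hdvd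
    exact Nat.dvd_of_mul_dvd_mul_right (by norm_num) hdvd
  obtain ⟨ψ⟩ : Nonempty (X ⧸ N ≃* alternatingGroup (Fin 6)) := by
    rcases Cfsg.Agent.S3035.result (π z') hzo hd with h | h | h | ⟨⟨h⟩⟩ | h
    · refine absurd h ?_
      have hne : π z' ≠ π e := fun h' => ef_vals.2.2.2.1 (by
        rw [← hθe, ← congrArg Subtype.val (hinj2 _ hzD _ heD h')]
        exact S.toSetting.θ_z)
      exact InvChar.HJSylow.sup_oddCore_ne_top hzo hoe hne (mem_cent.1 hec).symm (hall _ hoe)
    · exact absurd h (InvChar.HJSylow.not_perm_four (Or.inl rfl) hconj)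
    · exact absurd h (InvChar.HJSylow.not_perm_four (Or.inr rfl) hconj)
    · exfalso
      rw [Nat.card_congr h.toEquiv, InvChar.HJSylow.card_SL3_two.1] at h25
      norm_num at h25
    · exact h
  refine ⟨ψ.toMonoidHom.comp π, ψ.surjective.comp (QuotientGroup.mk'_surjective N), fun c => ?_⟩
  rw [← hπ]
  exact ψ.map_eq_one_iff

end Second

end CfsgLib.SuzukiType
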