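import Cfsg.Agent.Lib.SuzukiType.SecondLocal
import Cfsg.Agent.Lib.SuzukiType.CentTools

/-!
The centralisers in the whole group of subgroups of order five and seven of the copy of
`PSL₃(4)`: the four-group is self-centralising modulo the subgroup and is permuted by an element
centralising it.
-/

set_option autoImplicit false
set_option linter.unusedSectionVars false
set_option linter.style.haveILetI false
set_option maxRecDepth 100000
set_option synthInstance.maxSize 2000

namespace CfsgLib.SuzukiType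

open Cfsg CfsgLib.CIT CentTools

universe u₀

variable {G : Type u₀} [Group G] [Finite G]
variable {z : G} {Qf : G → Subgroup G} {θ : G → V} {ρ : G → O} {J : Subgroup O}
variable {y h t u k n x : G}

namespace Second

variable (S : Second z Qf θ ρ J y h t u k n x)
include S

theorem card_NT : Nat.card (NT z t) = 20160 := by
  obtain ⟨F, iF, iF', hF, ⟨f⟩⟩ := S.NT_iso
  letI := iF
  letI := iF'
  exact card_pslFour hF f

theorem exists_order {p : ℕ} (hp : p = 5 ∨ p = 7) :
    ∃ P : Subgroup G, P ≤ NT z t ∧ Nat.card P = p := by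
  haveI : Fact p.Prime := ⟨by rcases hp with rfl | rfl <;> norm_num⟩
  obtain ⟨a, ha⟩ := exists_prime_orderOf_dvd_card' (G := NT z t) p (by
    rw [S.card_NT]; rcases hp with rfl | rfl <;> norm_num)
  exact ⟨Subgroup.zpowers (a : G), Subgroup.zpowers_le.2 a.2, by
    rw [Nat.card_zpowers, Subgroup.orderOf_coe, ha]⟩

theorem cyc : k * (t * u) * k⁻¹ = t := by
  rw [show k * (t * u) * k⁻¹ = (k * t * k⁻¹) * (k * u * k⁻¹) by group, S.kt, S.ku, ← mul_assoc,
    S.ut, mul_assoc, S.u_sq, mul_one]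

theorem u_ne : u ≠ 1 := fun e => S.t_ne (by
  have h1 := congrArg (fun a => k⁻¹ * a * k) S.kt
  simp only [e, mul_one, inv_mul_cancel] at h1
  rw [← h1]; group)

theorem tu_ne : t * u ≠ 1 := fun e => S.t_ne (by
  have h1 := S.cyc
  rw [e, mul_one, mul_inv_cancel] at h1
  exact h1.symm)

theorem four_k {e : G} (he : IsFour t u e) : IsFour t u (k * e * k⁻¹) := by
  rcases he with rfl | rfl | rfl | rfl
  · exact Or.inl (by group)
  · exact Or.inr (Or.inr (Or.inl S.kt))
  · exact Or.inr (Or.inr (Or.inr S.ku))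
  · exact Or.inr (Or.inl S.cyc)

/-- An element centralising a subgroup of order five or seven and permuting the four-group. -/
theorem exists_move {p : ℕ} (hp : p = 5 ∨ p = 7) {P : Subgroup G} (hPN : P ≤ NT z t)
    (hP : Nat.card P = p) : ∃ c ∈ Subgroup.centralizer (P : Set G), c * t * c⁻¹ = u := by
  classical
  haveI hpp : Fact p.Prime := ⟨by rcases hp with rfl | rfl <;> norm_num⟩
  obtain ⟨l, hl, hlc⟩ := conj_of_not_sq_dvd (p := p) (K := NT z t)
    (A := P.map (MulAut.conj k).toMonoidHom) (B := P)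
    (by rintro _ ⟨a, ha, rfl⟩; exact S.NT_k a (hPN ha)) hPN
    (by rw [Subgroup.card_map_of_injective (MulAut.conj k).injective, hP]) hP
    (by rw [S.card_NT]; rcases hp with rfl | rfl <;> norm_num)
  obtain ⟨m, hm⟩ : ∃ m, m = l * k := ⟨_, rfl⟩
  have hlt : l * t * l⁻¹ = t := conj_fix_iff.2 (mem_HT.1 (S.NT_le hl))
  have hlu : l * u * l⁻¹ = u := conj_fix_iff.2 (S.u_centralises hl)
  have hmt : m * t * m⁻¹ = u := by
    rw [show m * t * m⁻¹ = l * (k * t * k⁻¹) * l⁻¹ by rw [hm]; group, S.kt, hlu]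
  have hmu : m * u * m⁻¹ = t * u := by
    rw [show m * u * m⁻¹ = l * (k * u * k⁻¹) * l⁻¹ by rw [hm]; group, S.ku,
      show l * (t * u) * l⁻¹ = (l * t * l⁻¹) * (l * u * l⁻¹) by group, hlt, hlu]
  have hmtu : m * (t * u) * m⁻¹ = t := by
    rw [show m * (t * u) * m⁻¹ = l * (k * (t * u) * k⁻¹) * l⁻¹ by rw [hm]; group, S.cyc, hlt]
  have hmN : m ∈ Subgroup.normalizer (P : Set G) := Subgroup.mem_normalizer_fintype fun a ha => by
    have := hlc _ ⟨a, ha, rfl⟩
    simpa [hm, mul_assoc] using this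
  haveI : IsCyclic P := isCyclic_of_prime_card hP
  have hcA : Nat.card (MulAut P) = p - 1 := by
    rw [IsCyclic.card_mulAut, hP, Nat.totient_prime hpp.out]
  set φ := P.normalizerMonoidHom
  have hker : ∀ g : Subgroup.normalizer (P : Set G),
      φ g = 1 ↔ (g : G) ∈ Subgroup.centralizer (P : Set G) := fun g => by
    rw [← MonoidHom.mem_ker, Subgroup.normalizerMonoidHom_ker, Subgroup.mem_subgroupOf]
  rcases hp with rfl | rfl
  · have h4 : φ ⟨m, hmN⟩ ^ 4 = 1 := by
      have := pow_card_eq_one' (x := φ ⟨m, hmN⟩)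
      rwa [hcA] at this
    refine ⟨m ^ 4, (hker (⟨m, hmN⟩ ^ 4)).1 (by rw [map_pow]; exact h4), ?_⟩
    calc m ^ 4 * t * (m ^ 4)⁻¹ = m * (m * (m * (m * t * m⁻¹) * m⁻¹) * m⁻¹) * m⁻¹ := by
          simp only [pow_succ, pow_zero, one_mul, mul_inv_rev, mul_assoc]
      _ = u := by rw [hmt, hmu, hmtu, hmt]
  · obtain ⟨F, iF, iF', hF, ⟨f⟩⟩ := S.NT_iso
    letI := iF
    letI := iF'
    have hP' : Nat.card (P.subgroupOf (NT z t)) = 7 := by
      rw [Nat.card_congr (Subgroup.subgroupOfEquivOfLe hPN).toEquiv, hP]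
    obtain ⟨hC, -⟩ := centralizer_of_card hF f (Or.inr rfl) hP'
    obtain ⟨i, hi, hidx⟩ := normalizer_of_card hF f (Or.inr rfl) hP'
    obtain rfl : i = 3 := by omega
    set P' := P.subgroupOf (NT z t)
    set N' := Subgroup.normalizer (P' : Set (NT z t))
    haveI hPn : (P'.subgroupOf N').Normal := Subgroup.normal_in_normalizer
    obtain ⟨g, hg⟩ : ∃ g : N', g ∉ P'.subgroupOf N' := by
      by_contra hall
      push Not at hall
      have : P'.relIndex N' = 1 := Subgroup.index_eq_one.2 (eq_top_iff.2 fun g _ => hall g)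
      omega
    have hgN : ((g : NT z t) : G) ∈ Subgroup.normalizer (P : Set G) :=
      Subgroup.mem_normalizer_fintype fun a ha =>
        (Subgroup.mem_normalizer_iff.1 g.2 ⟨a, hPN ha⟩).1 ha
    set α := φ ⟨_, hgN⟩ with hα
    have hα1 : α ≠ 1 := fun e => by
      have h1 : (g : NT z t) ∈ Subgroup.centralizer (P' : Set (NT z t)) :=
        Subgroup.mem_centralizer_iff.2 fun b hb => Subtype.ext (mem_cent_set.1 ((hker _).1 e) _ hb)
      rw [hC] at h1
      exact hg h1
    have hα3 : α ^ 3 = 1 := by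
      have h1 := (P'.subgroupOf N').pow_index_mem g
      rw [show (P'.subgroupOf N').index = 3 from hidx] at h1
      rw [hα, ← map_pow, hker]
      exact mem_cent_set.2 fun b hb => congrArg Subtype.val
        (show (⟨b, hPN hb⟩ : NT z t) * (g : NT z t) ^ 3 = (g : NT z t) ^ 3 * ⟨b, hPN hb⟩ from by
          have h2 : ((g ^ 3 : N') : NT z t) ∈ Subgroup.centralizer (P' : Set (NT z t)) := by
            rw [hC]; exact h1
          exact Subgroup.mem_centralizer_iff.1 h2 ⟨b, hPN hb⟩ hb)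
    set β := φ ⟨m, hmN⟩ ^ 2 with hβ
    have hβ3 : β ^ 3 = 1 := by
      have := pow_card_eq_one' (x := φ ⟨m, hmN⟩)
      rw [hcA] at this
      rw [hβ, ← pow_mul]
      exact this
    haveI := Fintype.ofFinite (MulAut P)
    haveI : IsCyclic (MulAut P) := by
      haveI : NeZero (Nat.card P) := ⟨Nat.card_pos.ne'⟩
      haveI : IsCyclic (ZMod (Nat.card P))ˣ := by
        rw [hP]
        exact ZMod.isCyclic_units_prime (by norm_num)
      exact isCyclic_of_surjective (IsCyclic.mulAutMulEquiv P).symm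
        (IsCyclic.mulAutMulEquiv P).symm.surjective
    have hord : orderOf α = 3 := orderOf_eq_prime hα3 hα1
    obtain ⟨j, hj⟩ : ∃ j : ℕ, α ^ j = β := by
      have h1 : Nat.card (Subgroup.zpowers α) = 3 := (Nat.card_zpowers α).trans hord
      have hle : ({1, α, α ^ 2} : Finset (MulAut P)) ⊆ Finset.univ.filter (fun a => a ^ 3 = 1) := by
        intro a ha
        simp only [Finset.mem_insert, Finset.mem_singleton] at ha
        simp only [Finset.mem_filter, Finset.mem_univ, true_and]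
        rcases ha with rfl | rfl | rfl
        · exact one_pow 3
        · exact hα3
        · rw [← pow_mul, mul_comm, pow_mul, hα3, one_pow]
      have hinj := pow_injOn_Iio_orderOf (x := α)
      rw [hord] at hinj
      have h01 : (1 : MulAut P) ≠ α := fun e => hα1 e.symm
      have h02 : (1 : MulAut P) ≠ α ^ 2 := fun e => by
        have := hinj (by norm_num : (0 : ℕ) < 3) (by norm_num : (2 : ℕ) < 3)
          (show α ^ 0 = α ^ 2 by rw [pow_zero]; exact e)
        omega
      have h12 : α ≠ α ^ 2 := fun e => by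
        have := hinj (by norm_num : (1 : ℕ) < 3) (by norm_num : (2 : ℕ) < 3)
          (show α ^ 1 = α ^ 2 by rw [pow_one]; exact e)
        omega
      have heq := Finset.eq_of_subset_of_card_le hle (by
        refine (IsCyclic.card_pow_eq_one_le (by norm_num)).trans ?_
        rw [Finset.card_insert_of_notMem (by simp [h01, h02]),
          Finset.card_insert_of_notMem (by simp [h12]), Finset.card_singleton])
      have hm' : β ∈ ({1, α, α ^ 2} : Finset (MulAut P)) := by
        rw [heq]; simp [hβ3]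
      simp only [Finset.mem_insert, Finset.mem_singleton] at hm'
      rcases hm' with e | e | e
      · exact ⟨0, by rw [pow_zero, e]⟩
      · exact ⟨1, by rw [pow_one, e]⟩
      · exact ⟨2, e.symm⟩
    set c : Subgroup.normalizer (P : Set G) := (⟨_, hgN⟩ ^ j)⁻¹ * ⟨m, hmN⟩ ^ 2 with hc
    have hcC : (c : G) ∈ Subgroup.centralizer (P : Set G) := (hker c).1 (by
      rw [hc, map_mul, map_inv, map_pow, map_pow, ← hα, hj, ← hβ, inv_mul_cancel])
    set g' := (((g : NT z t) : G) ^ j)⁻¹ with hg'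
    have hg'N : g' ∈ NT z t := inv_mem (pow_mem (g : NT z t).2 j)
    have hgt : g' * t * g'⁻¹ = t := conj_fix_iff.2 (mem_HT.1 (S.NT_le hg'N))
    have hgu : g' * u * g'⁻¹ = u := conj_fix_iff.2 (S.u_centralises hg'N)
    have hcv : (c : G) = g' * (m * m) := by
      simp [hc, hg', pow_two]
    have h1 : (c : G) * t * (c : G)⁻¹ = t * u := by
      rw [hcv, show g' * (m * m) * t * (g' * (m * m))⁻¹ = g' * (m * (m * t * m⁻¹) * m⁻¹) * g'⁻¹ by group,
        hmt, hmu, show g' * (t * u) * g'⁻¹ = (g' * t * g'⁻¹) * (g' * u * g'⁻¹) by group, hgt, hgu]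
    have h2 : (c : G) * (t * u) * (c : G)⁻¹ = u := by
      rw [hcv, show g' * (m * m) * (t * u) * (g' * (m * m))⁻¹ =
        g' * (m * (m * (t * u) * m⁻¹) * m⁻¹) * g'⁻¹ by group, hmtu, hmt, hgu]
    refine ⟨c * c, mul_mem hcC hcC, ?_⟩
    rw [show (c : G) * c * t * ((c : G) * c)⁻¹ = c * (c * t * (c : G)⁻¹) * (c : G)⁻¹ by group, h1, h2]

/-- The four-group hypotheses hold. -/
theorem four_data {p : ℕ} (hp : p = 5 ∨ p = 7) {P : Subgroup G} (hPN : P ≤ NT z t)
    (hP : Nat.card P = p) : Four P p t u := by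
  have hpd : Odd p := by rcases hp with rfl | rfl <;> decide
  have hnot : ∀ e : G, e * e = 1 → e ≠ 1 → e ∉ P := fun e h2 h1 he => by
    refine h1 (orderOf_eq_one_iff.1 ?_)
    have h3 : orderOf e ∣ Nat.gcd 2 p := Nat.dvd_gcd (orderOf_dvd_of_pow_eq_one (by rw [pow_two, h2]))
      (hP ▸ Subgroup.orderOf_dvd_natCard _ he)
    rwa [(Nat.coprime_two_left.2 hpd).gcd_eq_one, Nat.dvd_one] at h3
  have htc : t ∈ Subgroup.centralizer (P : Set G) :=
    mem_cent_set.2 fun b hb => mem_HT.1 (S.NT_le (hPN hb))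
  have huc : u ∈ Subgroup.centralizer (P : Set G) :=
    mem_cent_set.2 fun b hb => S.u_centralises (hPN hb)
  -- transport along the rotation
  have key : ∀ e e' : G, k * e * k⁻¹ = e' → (∀ {P : Subgroup G}, P ≤ NT z t → Nat.card P = p →
      ∀ a ∈ Subgroup.centralizer (P : Set G), a * e = e * a → ∃ f, IsFour t u f ∧ f * a ∈ P) →
      ∀ {P : Subgroup G}, P ≤ NT z t → Nat.card P = p →
      ∀ a ∈ Subgroup.centralizer (P : Set G), a * e' = e' * a → ∃ f, IsFour t u f ∧ f * a ∈ P := by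
    intro e e' hee hold P hPN hP a ha hae
    obtain ⟨f, hf, hfa⟩ := hold (P := P.map (MulAut.conj k⁻¹).toMonoidHom)
      (by rintro _ ⟨b, hb, rfl⟩; simpa using S.NT_k_inv b (hPN hb))
      (by rw [Subgroup.card_map_of_injective (MulAut.conj k⁻¹).injective, hP]) (k⁻¹ * a * k)
      (mem_cent_set.2 (by
        rintro _ ⟨b, hb, rfl⟩
        show k⁻¹ * b * k⁻¹⁻¹ * (k⁻¹ * a * k) = k⁻¹ * a * k * (k⁻¹ * b * k⁻¹⁻¹)
        exact PairSetting.conj_comm (g := k⁻¹) rfl (by rw [inv_inv]) (mem_cent_set.1 ha b hb)))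
      (PairSetting.conj_comm (g := k⁻¹) (by rw [inv_inv]) (by rw [← hee]; group) hae)
    obtain ⟨b, hb, hbe⟩ := hfa
    refine ⟨k * f * k⁻¹, S.four_k hf, ?_⟩
    have h1 : k⁻¹ * b * k = f * (k⁻¹ * a * k) := by simpa using hbe
    rw [show k * f * k⁻¹ * a = k * (f * (k⁻¹ * a * k)) * k⁻¹ by group, ← h1,
      show k * (k⁻¹ * b * k) * k⁻¹ = b by group]
    exact hb
  have ht' : ∀ {P : Subgroup G}, P ≤ NT z t → Nat.card P = p →
      ∀ a ∈ Subgroup.centralizer (P : Set G), a * t = t * a → ∃ f, IsFour t u f ∧ f * a ∈ P :=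
    fun hPN hP a ha hat => S.HT_cent hp hPN hP (mem_HT.2 hat) fun b hb => (mem_cent_set.1 ha b hb).symm
  refine ⟨hp, hP, S.t_sq, S.u_sq, S.ut, htc, huc, hnot t S.t_sq S.t_ne, hnot u S.u_sq S.u_ne,
    hnot _ S.tu_sq S.tu_ne, ?_, S.exists_move hp hPN hP⟩
  rintro e (rfl | rfl | rfl) a ha hae
  · exact ht' hPN hP a ha hae
  · exact key t _ S.kt ht' hPN hP a ha hae
  · exact key u _ S.ku (key t u S.kt ht') hPN hP a ha hae

/-- The order of the centraliser. -/
theorem card_cent {p : ℕ} (hp : p = 5 ∨ p = 7) {P : Subgroup G} (hPN : P ≤ NT z t)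
    (hP : Nat.card P = p) : Nat.card (Subgroup.centralizer (P : Set G)) ∣ 60 * p := by
  rcases (S.four_data hp hPN hP).cases with ⟨h, -⟩ | h
  · rw [h]; exact Nat.mul_dvd_mul_right (by norm_num) p
  · rw [h]

end Second

end CfsgLib.SuzukiType
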